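import Cfsg.Agent.Omega.NatPair.Mod
import Mathlib
import Cfsg.Agent.ClassTwoFusion.QuadStruct
import Cfsg.Agent.SmallSimple.TransferInvol
import Cfsg.Agent.Omega.NatPair.Semi
import Cfsg.Agent.LieRecognition.FieldSemilinear
import Cfsg.Agent.FastGrp
import Cfsg.Agent.Prune
set_option linter.all false
prune_inst 0x7ff8fefb8ff8bfffdfff7e7fffffdffdf9f85fffefdffdcbffe8ebff5fff030c8dc5abad8fe090ff4ef7629490b87813fb7eefffeb6bdc7ffffd5ff45ffbee0fe5f7bd0951f688340fbc0fff63f07f8e7f3fffffffffffffffffffffffffffbeffffffffffff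
open scoped Cfsg.Agent.FastGrp

section


/-!
# Quadratic offenders on a natural `SL₂(q)`-module
-/

set_option autoImplicit false
set_option linter.unusedSectionVars false

namespace Cfsg.Agent.Omega.NatPair.NatMod

open Subgroup Cfsg.Agent.Lib.SL2Mat

variable {G : Type*} [Group G] {F : Type*} [Field F] {V : Subgroup G} (M : NatMod F V)

/-- the vectors fixed by `A` -/
theorem card_fix (A : Subgroup G) : Nat.card {x : Fin 2 → F // ∀ a ∈ A, a * M.e x = M.e x * a} *
    (centralizer (A : Set G)).relIndex V = Nat.card F ^ 2 := by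
  have h1 : Nat.card {x : Fin 2 → F // ∀ a ∈ A, a * M.e x = M.e x * a} =
      Nat.card ((centralizer (A : Set G)).subgroupOf V) := by
    refine Nat.card_congr (Equiv.ofBijective
      (fun x => ⟨⟨M.e x.1, M.e_mem _⟩, mem_subgroupOf.2 (mem_centralizer_iff.2 fun a ha => x.2 a ha)⟩) ⟨?_, ?_⟩)
    · intro x y h
      exact Subtype.ext (M.e_inj (congrArg (fun z => ((z : (centralizer (A : Set G)).subgroupOf V) : V).1) h))
    · rintro ⟨⟨v, hv⟩, hv'⟩
      obtain ⟨x, rfl⟩ := (M.mem_iff v).1 hv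
      exact ⟨⟨x, fun a ha => mem_centralizer_iff.1 (mem_subgroupOf.1 hv') a ha⟩, rfl⟩
  rw [h1, relIndex, Subgroup.card_mul_index, M.card_V]

/-- an element of `N_G(V)` with nontrivial field automorphism fixes at most `q` vectors -/
theorem card_fix_le [Finite F] {a : G} (ha : a ∈ normalizer (V : Set G)) {s : F ≃+* F}
    (hs : ∀ (c : F) x, M.act a (c • x) = s c • M.act a x) {c : F} (hc : s c ≠ c) {X : Set (Fin 2 → F)}
    (hX : ∀ x ∈ X, M.act a x = x) : Nat.card X ≤ Nat.card F := by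
  have hinj : Function.Injective (fun p : X × X => (p.1.1 + c • p.2.1 : Fin 2 → F)) := by
    rintro ⟨⟨x, hx⟩, ⟨y, hy⟩⟩ ⟨⟨x', hx'⟩, ⟨y', hy'⟩⟩ h
    have h1 : x + c • y = x' + c • y' := h
    have h2 := congrArg (M.act a) h1
    rw [M.act_add ha, M.act_add ha, hs, hs, hX x hx, hX y hy, hX x' hx', hX y' hy'] at h2
    have h3 : (s c - c) • (y - y') = 0 := by
      have e1 : x = x' + c • y' - c • y := by rw [← h1]; abel
      rw [e1] at h2
      have e2 : c • y' - c • y + s c • y = s c • y' := by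
        have : x' + (c • y' - c • y + s c • y) = x' + s c • y' := by rw [← h2]; abel
        exact add_left_cancel this
      rw [sub_smul, smul_sub, smul_sub]
      have e3 : s c • y - c • y = s c • y' - c • y' := by
        rw [← e2]; abel
      have e4 : s c • y - s c • y' - (c • y - c • y') = (s c • y - c • y) - (s c • y' - c • y') := by abel
      rw [e4, e3, sub_self]
    rcases smul_eq_zero.1 h3 with h4 | h4
    · exact absurd (sub_eq_zero.1 h4) hc
    · have h5 : y = y' := sub_eq_zero.1 h4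
      subst h5
      have h6 : x = x' := add_right_cancel h1
      subst h6
      rfl
  have h1 := Nat.card_le_card_of_injective _ hinj
  rw [Nat.card_prod] at h1
  have h2 : Nat.card (Fin 2 → F) = Nat.card F * Nat.card F := by simp only [Nat.card_fun, pow_two, _root_.Nat.card_fun, _root_.Nat.card_eq_fintype_card, _root_.Fintype.card_fin, _root_.pow_two]
  rw [h2] at h1
  by_contra hcon
  push Not at hcon
  have := Nat.mul_lt_mul_of_lt_of_le hcon hcon.le (lt_of_le_of_lt (Nat.zero_le _) hcon)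
  omega

/-- **quadratic offenders on a natural module** -/
theorem quad_ff [Finite G] [Finite F] [CharP F 2] {A : Subgroup G} (hA : A ≤ normalizer (V : Set G))
    (hne : ∃ a ∈ A, ∃ v ∈ V, a * v ≠ v * a)
    (hq : ∀ a ∈ A, ∀ b ∈ A, ∀ v ∈ V, b * (a * v * a⁻¹ * v⁻¹) = (a * v * a⁻¹ * v⁻¹) * b)
    (hoff : (centralizer (A : Set G)).relIndex V ≤ (centralizer (V : Set G)).relIndex A) :
    ∃ w, M.Quad A w := by
  have hadd := fun {a : G} (ha : a ∈ A) => M.act_add (hA ha)
  -- commutators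
  have hcomm : ∀ a ∈ A, ∀ x, a * M.e x * a⁻¹ * (M.e x)⁻¹ = M.e (M.act a x - x) := by
    intro a ha x
    rw [M.e_sub, M.e_act (hA ha)]
  have hquad : ∀ a ∈ A, ∀ b ∈ A, ∀ x, M.act b (M.act a x - x) = M.act a x - x := by
    intro a ha b hb x
    rw [← M.commute_e (hA hb), ← hcomm a ha]
    exact hq a ha b hb _ (M.e_mem x)
  have hcardpos : 0 < Nat.card F := Nat.card_pos
  by_cases hlin : ∃ a ∈ A, (∃ x, M.act a x ≠ x) ∧ ∀ (c : F) x, M.act a (c • x) = c • M.act a x
  · obtain ⟨a, ha, ⟨y, hy⟩, hal⟩ := hlin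
    set w := M.act a y - y with hw
    have hw0 : w ≠ 0 := fun h => hy (sub_eq_zero.1 h)
    have hline : ∀ (c : F), ∀ b ∈ A, M.act b (c • w) = c • w := by
      intro c b hb
      have h1 := hquad a ha b hb (c • y)
      rwa [hal, ← smul_sub, ← hw] at h1
    have hfix1 : ∀ b ∈ A, M.act b w = w := by
      intro b hb
      have := hline 1 b hb
      rwa [one_smul] at this
    have hbl : ∀ b ∈ A, ∀ (c : F) x, M.act b (c • x) = c • M.act b x := by
      intro b hb c x
      obtain ⟨s, hs⟩ := M.exists_semi (hA hb)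
      have h1 : ∀ d : F, s d = d := by
        intro d
        have h2 := hline d b hb
        rw [hs, hfix1 b hb] at h2
        exact smul_left_injective F hw0 h2
      rw [hs, h1]
    have hfixa : ∀ x, M.act a x = x → ∃ c : F, x = c • w := by
      intro x hx
      by_contra hcon
      have h1 : dt w x ≠ 0 := fun h => hcon (exists_smul_of_dt hw0 h)
      exact hy (fix_all h1 (M.act a) (hadd ha) hal (hfix1 a ha) hx y)
    have hlin : ∀ b ∈ A, ∃ B, ap B w = w ∧ M.Ind b B := by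
      intro b hb
      obtain ⟨B, hB⟩ := exists_of_fix hw0 (M.act b) (hadd hb) (hbl b hb) (hfix1 b hb) (fun z => by
        obtain ⟨c, hc⟩ := hfixa (M.act b z - z) (hquad b hb a ha z)
        exact ⟨c, hc⟩)
      exact ⟨B, by rw [← hB, hfix1 b hb], M.ind_of_act (hA hb) hB⟩
    -- the fixed points
    have hfix : ∀ x, (∀ b ∈ A, b * M.e x = M.e x * b) ↔ ∃ c : F, x = c • w := by
      intro x
      constructor
      · intro h
        exact hfixa x ((M.commute_e (hA ha)).1 (h a ha))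
      · rintro ⟨c, rfl⟩ b hb
        exact (M.commute_e (hA hb)).2 (hline c b hb)
    have hcent : centralizer (A : Set G) ⊓ V = M.line w := by
      ext g
      rw [mem_inf]
      constructor
      · rintro ⟨h1, h2⟩
        obtain ⟨x, rfl⟩ := (M.mem_iff g).1 h2
        rw [M.e_mem_line, ← hfix]
        exact fun b hb => mem_centralizer_iff.1 h1 b hb
      · rintro ⟨c, rfl⟩
        refine ⟨mem_centralizer_iff.2 ?_, M.e_mem _⟩
        exact (hfix _).2 ⟨c, rfl⟩
    have hidx : (centralizer (A : Set G)).relIndex V = Nat.card F := by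
      have h1 := M.card_fix A
      have h2 : Nat.card {x : Fin 2 → F // ∀ a ∈ A, a * M.e x = M.e x * a} = Nat.card F := by
        rw [← M.card_line hw0]
        refine Nat.card_congr (Equiv.ofBijective (fun x => ⟨M.e x.1, M.e_mem_line.2 ((hfix _).1 x.2)⟩) ⟨?_, ?_⟩)
        · intro x y h
          exact Subtype.ext (M.e_inj (congrArg Subtype.val h))
        · rintro ⟨_, c, rfl⟩
          exact ⟨⟨c • w, (hfix _).2 ⟨c, rfl⟩⟩, rfl⟩
      rw [h2, pow_two] at h1
      exact Nat.eq_of_mul_eq_mul_left hcardpos h1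
    -- the transvections
    choose! τ hτ1 hτ2 using hlin
    obtain ⟨D, hD⟩ := exists_ap_e hw0
    let y₀ : Fin 2 → F := ap D ![0, 1]
    have hy₀ : dt w y₀ ≠ 0 := by
      have h1 := det_eq D
      rw [← hD]
      show dt (ap D ![1, 0]) (ap D ![0, 1]) ≠ 0
      unfold dt
      rw [ap_zero', ap_zero', ap_one', ap_one']
      simp only [Matrix.cons_val_zero, Matrix.cons_val_one, mul_one, mul_zero, add_zero, zero_add]
      intro h2
      rw [show ent D 0 0 * ent D 1 1 - ent D 1 0 * ent D 0 1 = ent D 0 0 * ent D 1 1 - ent D 0 1 * ent D 1 0 by ring,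
        h1] at h2
      exact one_ne_zero h2
    have hmove : ∀ B, ap B w = w → ∃ c : F, ap B y₀ - y₀ = c • w := by
      intro B hB
      have h1 : dt w (ap B y₀ - y₀) = 0 := by
        have h2 : dt (ap B w) (ap B y₀) = dt w y₀ := by
          unfold dt
          rw [ap_zero', ap_zero', ap_one', ap_one']
          linear_combination (w 0 * y₀ 1 - w 1 * y₀ 0) * det_eq B
        rw [hB] at h2
        unfold dt at h2 ⊢
        rw [Pi.sub_apply, Pi.sub_apply]
        linear_combination h2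
      exact exists_smul_of_dt hw0 h1
    have hdet : ∀ B B', ap B w = w → ap B' w = w → ap B y₀ = ap B' y₀ → B = B' := by
      intro B B' h1 h2 h3
      apply ap_inj
      intro x
      obtain ⟨α, β, rfl⟩ := exists_comb hy₀ x
      rw [ap_add, ap_add, ap_smul, ap_smul, ap_smul, ap_smul, h1, h2, h3]
    have hcv : ∀ b ∈ A, (∀ v ∈ V, b * v = v * b) ↔ M.act b y₀ = y₀ := by
      intro b hb
      rw [← M.commute_e (hA hb)]
      constructor
      · intro h
        exact h _ (M.e_mem _)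
      · intro h v hv
        obtain ⟨x, rfl⟩ := (M.mem_iff v).1 hv
        rw [M.commute_e (hA hb)] at h ⊢
        exact fix_all hy₀ (M.act b) (hadd hb) (hbl b hb) (hfix1 b hb) h x
    -- the map `A → F`
    have hcoord : ∀ b ∈ A, ∃ c : F, M.act b y₀ - y₀ = c • w := by
      intro b hb
      obtain ⟨c, hc⟩ := hmove _ (hτ1 b hb)
      exact ⟨c, by rw [M.act_of_ind (hτ2 b hb), hc]⟩
    choose! κ hκ using hcoord
    let K := (centralizer (V : Set G)).subgroupOf A
    have hKiff : ∀ b b' : A, (QuotientGroup.mk b : A ⧸ K) = QuotientGroup.mk b' ↔ κ b = κ b' := by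
      intro b b'
      rw [QuotientGroup.eq, mem_subgroupOf, mem_centralizer_iff]
      have hbb : (b : G)⁻¹ * b' ∈ A := mul_mem (inv_mem b.2) b'.2
      have h1 : (∀ v ∈ (V : Set G), v * (((b⁻¹ * b' : A) : G)) = ((b⁻¹ * b' : A) : G) * v) ↔
          (∀ v ∈ V, ((b : G)⁻¹ * b') * v = v * ((b : G)⁻¹ * b')) :=
        ⟨fun h v hv => (h v hv).symm, fun h v hv => (h v hv).symm⟩
      rw [h1, hcv _ hbb, M.act_mul (inv_mem (hA b.2)) (hA b'.2)]
      have h2 : M.act (b : G)⁻¹ (M.act b' y₀) = y₀ ↔ M.act b' y₀ = M.act b y₀ := by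
        constructor
        · intro h
          have := M.act_act_inv (hA b.2) (M.act b' y₀)
          rw [h] at this
          exact this.symm
        · intro h
          rw [h, M.act_inv_act (hA b.2)]
      rw [h2]
      constructor
      · intro h
        have e1 := hκ b b.2
        rw [← h, hκ b' b'.2] at e1
        exact (smul_left_injective F hw0 e1).symm
      · intro h
        have e1 := hκ b b.2
        rw [h, ← hκ b' b'.2] at e1
        exact (sub_left_injective e1).symm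
    let κ' : A ⧸ K → F := fun q => κ q.out
    have hκ' : ∀ b : A, κ' (QuotientGroup.mk b) = κ b := by
      intro b
      exact (hKiff _ _).1 (QuotientGroup.out_eq' _)
    have hκinj : Function.Injective κ' := by
      intro q q' h
      have h1 := (hKiff q.out q'.out).2 h
      rwa [QuotientGroup.out_eq', QuotientGroup.out_eq'] at h1
    have hcle : (centralizer (V : Set G)).relIndex A ≤ Nat.card F := by
      have := Nat.card_le_card_of_injective _ hκinj
      exact this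
    have hceq : (centralizer (V : Set G)).relIndex A = Nat.card F := by
      rw [hidx] at hoff
      omega
    have hκbij : Function.Bijective κ' := by
      have : Nat.card (A ⧸ K) = Nat.card F := hceq
      exact (Nat.bijective_iff_injective_and_card _).2 ⟨hκinj, this⟩
    have hsurj : ∀ c : F, ∃ b ∈ A, M.act b y₀ - y₀ = c • w := by
      intro c
      obtain ⟨q, hq'⟩ := hκbij.2 c
      refine ⟨(q.out : A), (q.out : A).2, ?_⟩
      rw [← hq', hκ _ (q.out : A).2]
    refine ⟨w, hw0, fun b hb => ⟨τ b, hτ1 b hb, hτ2 b hb⟩, ?_, hcent, hceq, hidx, ?_, ?_⟩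
    · intro B hB
      obtain ⟨c, hc⟩ := hmove B hB
      obtain ⟨b, hb, hb'⟩ := hsurj c
      refine ⟨b, hb, ?_⟩
      have h1 : τ b = B := by
        apply hdet _ _ (hτ1 b hb) hB
        rw [← M.act_of_ind (hτ2 b hb)]
        have h2 : M.act b y₀ - y₀ = ap B y₀ - y₀ := by rw [hb', hc]
        exact sub_left_injective h2
      rw [← h1]
      exact hτ2 b hb
    · intro b hb v hv
      obtain ⟨x, rfl⟩ := (M.mem_iff v).1 hv
      rw [hcomm b hb, M.e_mem_line]
      exact hfixa _ (hquad b hb a ha x)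
    · rintro _ ⟨c, rfl⟩
      obtain ⟨b, hb, hb'⟩ := hsurj c
      exact ⟨b, hb, M.e y₀, M.e_mem _, by rw [hcomm b hb, hb']⟩
  · -- no nontrivial linear element
    exfalso
    push Not at hlin
    obtain ⟨a, ha, v, hv, hav⟩ := hne
    obtain ⟨x, rfl⟩ := (M.mem_iff v).1 hv
    have hax : M.act a x ≠ x := fun h => hav ((M.commute_e (hA ha)).2 h)
    have hfield : ∀ b ∈ A, ∀ s : F ≃+* F, (∀ (c : F) x, M.act b (c • x) = s c • M.act b x) → (∃ x, M.act b x ≠ x) →
        ∃ c : F, s c ≠ c := by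
      intro b hb s hs hbx
      by_contra hcon
      push Not at hcon
      obtain ⟨c, x, hcx⟩ := hlin b hb hbx
      apply hcx
      rw [hs, hcon]
    obtain ⟨s, hs⟩ := M.exists_semi (hA ha)
    obtain ⟨c, hc⟩ := hfield a ha s hs ⟨x, hax⟩
    have h1 := M.card_fix A
    have h2 : Nat.card {x : Fin 2 → F // ∀ a ∈ A, a * M.e x = M.e x * a} ≤ Nat.card F := by
      refine M.card_fix_le (hA ha) hs hc (X := {x | ∀ a ∈ A, a * M.e x = M.e x * a}) ?_
      intro x hx
      exact (M.commute_e (hA ha)).1 (hx a ha)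
    have h3 : Nat.card F ≤ (centralizer (A : Set G)).relIndex V := by
      by_contra hcon
      push Not at hcon
      have : Nat.card {x : Fin 2 → F // ∀ a ∈ A, a * M.e x = M.e x * a} * (centralizer (A : Set G)).relIndex V <
          Nat.card F * Nat.card F := by
        calc _ ≤ Nat.card F * (centralizer (A : Set G)).relIndex V := Nat.mul_le_mul_right _ h2
          _ < _ := Nat.mul_lt_mul_of_pos_left hcon hcardpos
      rw [h1, pow_two] at this
      exact lt_irrefl _ this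
    -- the order of the image
    let f : A →* RingAut F := M.sgHom.comp (inclusion hA)
    have hker : f.ker ≤ (centralizer (V : Set G)).subgroupOf A := by
      intro b hb
      rw [mem_subgroupOf, mem_centralizer_iff]
      intro v hv
      obtain ⟨x, rfl⟩ := (M.mem_iff v).1 hv
      symm
      rw [M.commute_e (hA b.2)]
      by_contra hcon
      have hb1 : M.sg ⟨b, hA b.2⟩ = 1 := hb
      obtain ⟨c, hc⟩ := hfield b b.2 (M.sg ⟨b, hA b.2⟩) (fun c x => M.sg_spec ⟨b, hA b.2⟩ c x) ⟨x, hcon⟩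
      apply hc
      rw [hb1]; rfl
    have h4 : (centralizer (V : Set G)).relIndex A ≤ Nat.card (F ≃+* F) := by
      have h5 : ((centralizer (V : Set G)).subgroupOf A).index ∣ f.ker.index := Subgroup.index_dvd_of_le hker
      have h6 : f.ker.index ≤ Nat.card (RingAut F) := by
        rw [Subgroup.index_ker]
        have : Finite (RingAut F) := Finite.of_injective (fun e : F ≃+* F => (e : F → F)) DFunLike.coe_injective
        exact Nat.card_le_card_of_injective _ (Subtype.val_injective (p := fun x => x ∈ f.range))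
      have h7 : 0 < f.ker.index := Nat.pos_of_ne_zero Subgroup.index_ne_zero_of_finite
      exact (Nat.le_of_dvd h7 h5).trans h6
    have h5 := card_ringAut_lt F
    omega

end Cfsg.Agent.Omega.NatPair.NatMod

end

section


/-!
# Weakly closed quadratic TI-subgroups with cyclic quotient  (LEMMA NORM, bb OMEGA #12618, abstract part)

`L` acts faithfully on the elementary abelian 2-group `V`, `A ≤ S ∈ Syl₂(L)`, `A` quadratic, `C_V(a) = C_V(A)` for
`1 ≠ a ∈ A`, `|V : C_V(A)| = |A|`, `|V| = |A|²`, `S / A` cyclic.  If `A` is strongly closed in `S` then the subgroups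
`C_V(A^g)` meet trivially; if it is not then `|A| ≤ 4`.
-/

set_option autoImplicit false
set_option linter.unusedSectionVars false

namespace Cfsg.Agent.Omega.NatPair.NormAbs

open Subgroup
open Cfsg.Agent.ClassTwoFusion.Quad

variable {L V : Type*} [Group L] [Group V] [MulDistribMulAction L V]

/-- `g A g⁻¹` -/
def cj (g : L) (A : Subgroup L) : Subgroup L := A.map (MulAut.conj g).toMonoidHom

theorem mem_cj {g x : L} {A : Subgroup L} : x ∈ cj g A ↔ g⁻¹ * x * g ∈ A := by
  constructor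
  · rintro ⟨y, hy, rfl⟩
    have e : g⁻¹ * (MulAut.conj g).toMonoidHom y * g = y := by simp [mul_assoc]
    rw [e]; exact hy
  · intro h
    exact ⟨_, h, by simp only [mul_assoc, _root_.MulEquiv.toMonoidHom_eq_coe, _root_.mul_assoc, _root_.MonoidHom.coe_coe, _root_.MulAut.conj_apply, _root_.mul_inv_cancel_left, _root_.mul_inv_cancel, _root_.mul_one]⟩

theorem conj_mem_cj {g x : L} {A : Subgroup L} (hx : x ∈ A) : g * x * g⁻¹ ∈ cj g A := by
  rw [mem_cj]
  have e : g⁻¹ * (g * x * g⁻¹) * g = x := by group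
  rw [e]; exact hx

theorem cj_mul (g h : L) (A : Subgroup L) : cj (g * h) A = cj g (cj h A) := by
  ext x
  rw [mem_cj, mem_cj, mem_cj]
  have e : (g * h)⁻¹ * x * (g * h) = h⁻¹ * (g⁻¹ * x * g) * h := by group
  rw [e]

theorem cj_one (A : Subgroup L) : cj 1 A = A := by
  ext x
  rw [mem_cj]; simp

theorem cj_mono {g : L} {A B : Subgroup L} (h : A ≤ B) : cj g A ≤ cj g B := Subgroup.map_mono h

theorem cj_inv_cj (g : L) (A : Subgroup L) : cj g⁻¹ (cj g A) = A := by
  rw [← cj_mul, inv_mul_cancel, cj_one]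

theorem cj_cj_inv (g : L) (A : Subgroup L) : cj g (cj g⁻¹ A) = A := by
  rw [← cj_mul, mul_inv_cancel, cj_one]

theorem card_cj (g : L) (A : Subgroup L) : Nat.card (cj g A) = Nat.card A :=
  (Nat.card_congr (A.equivMapOfInjective _ (MulAut.conj g).injective).toEquiv).symm

theorem le_cj_iff {g : L} {A B : Subgroup L} : A ≤ cj g B ↔ cj g⁻¹ A ≤ B := by
  constructor
  · intro h
    rw [← cj_inv_cj g B]
    exact cj_mono h
  · intro h
    rw [← cj_cj_inv g A]
    exact cj_mono h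

theorem isPGroup_cj {g : L} {A : Subgroup L} (h : IsPGroup 2 A) : IsPGroup 2 (cj g A) := h.map _

theorem mem_cv_cj {g : L} {A : Subgroup L} {v : V} : v ∈ cv V ((cj g A : Subgroup L) : Set L) ↔
    g⁻¹ • v ∈ cv V (A : Set L) := by
  constructor
  · intro hv a ha
    have h1 := hv _ (conj_mem_cj (g := g) ha)
    rw [eq_inv_smul_iff, ← mul_smul, ← mul_smul]
    exact h1
  · intro hv a ha
    have h1 := hv _ (mem_cj.1 ha)
    rw [eq_inv_smul_iff, smul_smul, smul_smul] at h1
    have e : g * (g⁻¹ * a * g) * g⁻¹ = a := by group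
    rwa [mul_assoc, ← mul_assoc g, e] at h1

/-- The hypotheses. -/
structure Inp (V : Type*) [Group V] [MulDistribMulAction L V] {C : Type*} [CommGroup C] (S : Sylow 2 L) (A : Subgroup L)
    (φ : ↥(S : Subgroup L) →* C) : Prop where
  comm : ∀ v w : V, v * w = w * v
  sq : ∀ v : V, v * v = 1
  faith : ∀ x : L, (∀ v : V, x • v = v) → x = 1
  AS : A ≤ (S : Subgroup L)
  ker : ∀ s : (S : Subgroup L), φ s = 1 ↔ (s : L) ∈ A
  cyc : IsCyclic C
  quad : ∀ a ∈ A, ∀ b ∈ A, ∀ v : V, b • d a v = d a v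
  reg : ∀ a ∈ A, a ≠ 1 → cv V ({a} : Set L) = cv V (A : Set L)
  idx : (cv V (A : Set L)).index = Nat.card A
  card : Nat.card V = Nat.card A * Nat.card A
  lin : ∀ s ∈ (S : Subgroup L), (∀ v ∈ cv V (A : Set L), s • v = v) → (∀ v : V, d s v ∈ cv V (A : Set L)) → s ∈ A
  fix : ∀ s ∈ (S : Subgroup L), s ∉ A → Nat.card ↥(A ⊓ centralizer ({s} : Set L)) ^ 2 ≤ Nat.card A
  four : 4 ≤ Nat.card A

namespace Inp

variable {C : Type*} [CommGroup C] {S : Sylow 2 L} {A : Subgroup L} {φ : ↥(S : Subgroup L) →* C}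
variable (h : Inp V S A φ)
include h

theorem inv_eq (v : V) : v⁻¹ = v := inv_eq_of_mul_eq_one_right (h.sq v)

theorem smul_eq (x : L) (v : V) : x • v = d x v * v := by
  unfold d
  rw [mul_assoc, h.sq, mul_one]

theorem d_mem {a : L} (ha : a ∈ A) (v : V) : d a v ∈ cv V (A : Set L) := fun b hb => h.quad a ha b hb v

/-- elements acting trivially on `U` and `V / U` have order two and commute -/
theorem stab {U : Subgroup V} {x y : L} (hx : ∀ v ∈ U, x • v = v) (hx' : ∀ v : V, d x v ∈ U)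
    (hy : ∀ v ∈ U, y • v = v) (hy' : ∀ v : V, d y v ∈ U) : x * y = y * x := by
  have key : ∀ v : V, (x * y) • v = (y * x) • v := by
    intro v
    rw [mul_smul, mul_smul, h.smul_eq y v, h.smul_eq x v, smul_mul', smul_mul', hx _ (hy' v), hy _ (hx' v),
      h.smul_eq x v, h.smul_eq y v, ← mul_assoc, ← mul_assoc, h.comm (d y v)]
  have h3 : (y * x)⁻¹ * (x * y) = 1 := h.faith _ (fun v => by rw [mul_smul, key v, inv_smul_smul])
  rw [inv_mul_eq_one] at h3
  exact h3.symm

theorem stab_sq {U : Subgroup V} {x : L} (hx : ∀ v ∈ U, x • v = v) (hx' : ∀ v : V, d x v ∈ U) : x * x = 1 := by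
  apply h.faith
  intro v
  rw [mul_smul, h.smul_eq x v, smul_mul', hx _ (hx' v), h.smul_eq x v, ← mul_assoc, h.sq, one_mul]

theorem A_comm {a b : L} (ha : a ∈ A) (hb : b ∈ A) : a * b = b * a :=
  h.stab (U := cv V (A : Set L)) (fun _ hv => hv a ha) (h.d_mem ha) (fun _ hv => hv b hb) (h.d_mem hb)

theorem A_sq {a : L} (ha : a ∈ A) : a * a = 1 :=
  h.stab_sq (U := cv V (A : Set L)) (fun _ hv => hv a ha) (h.d_mem ha)

/-- the stabilizer of `V > U > 1` -/
def stb (U : Subgroup V) : Subgroup L where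
  carrier := {x | (∀ v ∈ U, x • v = v) ∧ ∀ v : V, d x v ∈ U}
  one_mem' := ⟨fun v _ => one_smul L v, fun v => by
    show (1 : L) • v * v ∈ U
    rw [one_smul, h.sq]; exact one_mem _⟩
  mul_mem' := by
    rintro x y ⟨hx, hx'⟩ ⟨hy, hy'⟩
    refine ⟨fun v hv => by rw [mul_smul, hy v hv, hx v hv], fun v => ?_⟩
    show (x * y) • v * v ∈ U
    rw [mul_smul, h.smul_eq y v, smul_mul', hx _ (hy' v), h.smul_eq x v, mul_assoc, mul_assoc, h.sq, mul_one]
    exact mul_mem (hy' v) (hx' v)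
  inv_mem' := by
    rintro x ⟨hx, hx'⟩
    have h1 := h.stab_sq hx hx'
    have h2 : x⁻¹ = x := inv_eq_of_mul_eq_one_right h1
    rw [h2]
    exact ⟨hx, hx'⟩

theorem isPGroup : IsPGroup 2 A := S.isPGroup'.to_le h.AS

theorem norm {s : L} (hs : s ∈ (S : Subgroup L)) {a : L} (ha : a ∈ A) : s * a * s⁻¹ ∈ A := by
  have h1 := (h.ker ⟨s * a * s⁻¹, mul_mem (mul_mem hs (h.AS ha)) (inv_mem hs)⟩).1 (by
    have e : (⟨s * a * s⁻¹, mul_mem (mul_mem hs (h.AS ha)) (inv_mem hs)⟩ : ↥(S : Subgroup L)) =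
        ⟨s, hs⟩ * ⟨a, h.AS ha⟩ * ⟨s, hs⟩⁻¹ := rfl
    rw [e, map_mul, map_mul, (h.ker ⟨a, h.AS ha⟩).2 ha, mul_one, map_inv, mul_inv_cancel])
  exact h1

theorem norm' {s : L} (hs : s ∈ (S : Subgroup L)) {a : L} (ha : a ∈ A) : s⁻¹ * a * s ∈ A := by
  have := h.norm (inv_mem hs) ha
  rwa [inv_inv] at this

/-- two elements of `S - A` whose squares are in `A` are congruent modulo `A` -/
theorem uniq {s t : L} (hs : s ∈ (S : Subgroup L)) (hsA : s ∉ A) (hs2 : s * s ∈ A) (ht : t ∈ (S : Subgroup L))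
    (htA : t ∉ A) (ht2 : t * t ∈ A) : φ ⟨s, hs⟩ = φ ⟨t, ht⟩ := by
  have hcyc := h.cyc
  have h1 : φ ⟨s, hs⟩ ^ 2 = 1 := by
    rw [← map_pow, pow_two]
    exact (h.ker _).2 hs2
  have h2 : φ ⟨t, ht⟩ ^ 2 = 1 := by
    rw [← map_pow, pow_two]
    exact (h.ker _).2 ht2
  have h3 : φ ⟨s, hs⟩ ≠ 1 := fun e => hsA ((h.ker _).1 e)
  have h4 : φ ⟨t, ht⟩ ≠ 1 := fun e => htA ((h.ker _).1 e)
  obtain ⟨g, hg⟩ := hcyc.exists_generator
  obtain ⟨m, hm⟩ := mem_zpowers_iff.1 (hg (φ ⟨s, hs⟩))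
  obtain ⟨n, hn⟩ := mem_zpowers_iff.1 (hg (φ ⟨t, ht⟩))
  rw [← hm] at h1 h3
  rw [← hn] at h2 h4
  rw [← hm, ← hn]
  rw [← zpow_natCast, ← zpow_mul] at h1 h2
  have h1' := orderOf_dvd_iff_zpow_eq_one.2 h1
  have h2' := orderOf_dvd_iff_zpow_eq_one.2 h2
  have h3' : ¬ (orderOf g : ℤ) ∣ m := fun e => h3 (orderOf_dvd_iff_zpow_eq_one.1 e)
  have h4' : ¬ (orderOf g : ℤ) ∣ n := fun e => h4 (orderOf_dvd_iff_zpow_eq_one.1 e)
  have h5 : (orderOf g : ℤ) ∣ m - n := by
    obtain ⟨a, ha⟩ := h1'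
    obtain ⟨b, hb⟩ := h2'
    have h6 : a % 2 = 1 := by
      rcases Int.emod_two_eq_zero_or_one a with e | e
      · exfalso
        apply h3'
        obtain ⟨k, hk⟩ := Int.dvd_of_emod_eq_zero e
        exact ⟨k, by push_cast at ha; rw [hk] at ha; linarith only [ha]⟩
      · exact e
    have h7 : b % 2 = 1 := by
      rcases Int.emod_two_eq_zero_or_one b with e | e
      · exfalso
        apply h4'
        obtain ⟨k, hk⟩ := Int.dvd_of_emod_eq_zero e
        exact ⟨k, by push_cast at hb; rw [hk] at hb; linarith⟩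
      · exact e
    obtain ⟨k, hk⟩ : (2 : ℤ) ∣ a - b := by omega
    refine ⟨k, ?_⟩
    push_cast at ha hb
    have : a = b + 2 * k := by linarith
    rw [this] at ha
    linarith
  have h8 := orderOf_dvd_iff_zpow_eq_one.1 h5
  rw [zpow_sub, mul_inv_eq_one] at h8
  exact h8

/-- an elementary abelian subgroup of `S` which meets `A` trivially has order at most two -/
theorem card_le_two [Finite L] {U : Subgroup L} (hU : U ≤ (S : Subgroup L)) (hsq : ∀ u ∈ U, u * u = 1)
    (hUA : ∀ u ∈ U, u ∈ A → u = 1) : Nat.card U ≤ 2 := by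
  by_contra hlt
  push Not at hlt
  have h1 : ∃ u ∈ U, u ≠ 1 := by
    by_contra hc
    push Not at hc
    have : U = ⊥ := (eq_bot_iff_forall _).2 hc
    rw [this, card_bot] at hlt
    omega
  obtain ⟨u, hu, hu1⟩ := h1
  have h2 : ∃ w ∈ U, w ≠ 1 ∧ w ≠ u := by
    by_contra hc
    push Not at hc
    have h3 : (U : Set L) ⊆ {1, u} := by
      intro w hw
      by_cases hw1 : w = 1
      · exact Or.inl hw1
      · exact Or.inr (hc w hw hw1)
    have h4 : Nat.card U ≤ Nat.card ({1, u} : Set L) := Nat.card_mono (Set.toFinite _) h3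
    have h5 : Nat.card ({1, u} : Set L) ≤ 2 := by
      rw [Nat.card_coe_set_eq]
      exact (Set.ncard_insert_le 1 {u}).trans (by rw [Set.ncard_singleton])
    omega
  obtain ⟨w, hw, hw1, hwu⟩ := h2
  have e := h.uniq (hU hu) (fun hA => hu1 (hUA u hu hA)) (by rw [hsq u hu]; exact one_mem _) (hU hw)
    (fun hA => hw1 (hUA w hw hA)) (by rw [hsq w hw]; exact one_mem _)
  have h3 : (⟨w, hU hw⟩⁻¹ * ⟨u, hU hu⟩ : ↥(S : Subgroup L)).1 ∈ A := (h.ker _).1 (by
    rw [map_mul, map_inv, e, inv_mul_cancel])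
  have h4 := hUA _ (mul_mem (inv_mem hw) hu) h3
  rw [inv_mul_eq_one] at h4
  exact hwu h4

variable [Finite L]

/-- `A` is weakly closed -/
theorem wc {g : L} (hg : cj g A ≤ (S : Subgroup L)) : cj g A = A := by
  have hsqB : ∀ b ∈ cj g A, b * b = 1 := by
    intro b hb
    have h1 := h.A_sq (mem_cj.1 hb)
    have e : b * b = g * (g⁻¹ * b * g * (g⁻¹ * b * g)) * g⁻¹ := by group
    rw [e, h1, mul_one, mul_inv_cancel]
  by_cases hB : ∀ b ∈ cj g A, b ∈ A → b = 1
  · have h1 := h.card_le_two hg hsqB hB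
    rw [card_cj] at h1
    have := h.four
    omega
  · push Not at hB
    obtain ⟨b, hb, hbA, hb1⟩ := hB
    have hcv : cv V ((cj g A : Subgroup L) : Set L) = cv V (A : Set L) := by
      rw [← h.reg b hbA hb1]
      ext v
      rw [mem_cv_cj, mem_cv_singleton]
      have h2 : g⁻¹ * b * g ≠ 1 := by
        intro e
        apply hb1
        have e2 : b = g * (g⁻¹ * b * g) * g⁻¹ := by group
        rw [e2, e, mul_one, mul_inv_cancel]
      rw [← h.reg _ (mem_cj.1 hb) h2, mem_cv_singleton, smul_smul, mul_assoc, mul_inv_cancel, mul_one, mul_smul,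
        smul_left_cancel_iff]
    have hle : cj g A ≤ A := by
      intro c hc
      refine h.lin c (hg hc) (fun v hv => ?_) (fun v => ?_)
      · rw [← hcv] at hv
        exact hv c hc
      · rw [← hcv, mem_cv_cj]
        have h3 := h.d_mem (mem_cj.1 hc) (g⁻¹ • v)
        have e : d (g⁻¹ * c * g) (g⁻¹ • v) = g⁻¹ • d c v := by
          unfold d
          rw [smul_mul', smul_smul, smul_smul, mul_assoc, mul_assoc, mul_inv_cancel, mul_one]
        rwa [e] at h3
    exact Subgroup.eq_of_le_of_card_ge hle (by rw [card_cj])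

/-- a 2-subgroup containing `A^g` lies in a Sylow group in which it is the weakly closed one -/
theorem exists_syl {g : L} {Q : Subgroup L} (hQ : IsPGroup 2 Q) (hg : cj g A ≤ Q) :
    ∃ x : L, cj x A = cj g A ∧ cj x⁻¹ Q ≤ (S : Subgroup L) := by
  obtain ⟨T, hT⟩ := hQ.exists_le_sylow
  obtain ⟨x, rfl⟩ := MulAction.exists_smul_eq L S T
  rw [coe_smul_sylow] at hT
  have h1 : Q ≤ cj x (S : Subgroup L) := hT
  have h2 := le_cj_iff.1 h1
  refine ⟨x, ?_, h2⟩
  have h3 : cj (x⁻¹ * g) A ≤ (S : Subgroup L) := by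
    rw [cj_mul]
    exact (cj_mono hg).trans h2
  have h4 := h.wc h3
  rw [cj_mul] at h4
  calc cj x A = cj x (cj x⁻¹ (cj g A)) := by rw [h4]
    _ = cj g A := cj_cj_inv _ _

/-- `A` is TI -/
theorem ti {g k : L} {a : L} (ha : a ∈ cj g A) (ha' : a ∈ cj k A) (ha1 : a ≠ 1) : cj g A = cj k A := by
  have hcv1 : ∀ {g : L}, a ∈ cj g A → cv V ((cj g A : Subgroup L) : Set L) = cv V ({a} : Set L) := by
    intro g ha
    ext v
    have h2 : g⁻¹ * a * g ≠ 1 := by
      intro e
      apply ha1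
      have e2 : a = g * (g⁻¹ * a * g) * g⁻¹ := by group
      rw [e2, e, mul_one, mul_inv_cancel]
    rw [mem_cv_cj, mem_cv_singleton, ← h.reg _ (mem_cj.1 ha) h2, mem_cv_singleton, smul_smul, mul_assoc,
      mul_inv_cancel, mul_one, mul_smul, smul_left_cancel_iff]
  have hd : ∀ {g : L}, a ∈ cj g A → ∀ c ∈ cj g A, ∀ v : V, d c v ∈ cv V ({a} : Set L) := by
    intro g ha c hc v
    rw [← hcv1 ha, mem_cv_cj]
    have h3 := h.d_mem (mem_cj.1 hc) (g⁻¹ • v)
    have e : d (g⁻¹ * c * g) (g⁻¹ • v) = g⁻¹ • d c v := by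
      unfold d
      rw [smul_mul', smul_smul, smul_smul, mul_assoc, mul_assoc, mul_inv_cancel, mul_one]
    rwa [e] at h3
  have hf : ∀ {g : L}, a ∈ cj g A → ∀ c ∈ cj g A, ∀ v ∈ cv V ({a} : Set L), c • v = v := by
    intro g ha c hc v hv
    rw [← hcv1 ha] at hv
    exact hv c hc
  -- the join is a 2-group
  have hp : IsPGroup 2 ↥(cj g A ⊔ cj k A) := by
    have hle : cj g A ⊔ cj k A ≤ h.stb (cv V ({a} : Set L)) :=
      sup_le (fun c hc => ⟨hf ha c hc, hd ha c hc⟩) (fun c hc => ⟨hf ha' c hc, hd ha' c hc⟩)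
    intro x
    have h1 := hle x.2
    exact ⟨1, Subtype.ext (by
      rw [pow_one, SubmonoidClass.coe_pow, pow_two]
      exact h.stab_sq h1.1 h1.2)⟩
  obtain ⟨x, hx1, hx2⟩ := h.exists_syl hp (le_sup_left : cj g A ≤ _)
  have h3 : cj (x⁻¹ * k) A ≤ (S : Subgroup L) := by
    rw [cj_mul]
    exact (cj_mono le_sup_right).trans hx2
  have h4 := h.wc h3
  rw [cj_mul] at h4
  calc cj g A = cj x A := hx1.symm
    _ = cj x (cj x⁻¹ (cj k A)) := by rw [h4]
    _ = cj k A := cj_cj_inv _ _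

/-- `a ↦ (s⁻¹ a s) a` -/
def dl (s : L) (hs : s ∈ (S : Subgroup L)) : A →* A where
  toFun a := ⟨s⁻¹ * a * s * a, mul_mem (h.norm' hs a.2) a.2⟩
  map_one' := Subtype.ext (by simp)
  map_mul' a b := Subtype.ext (by
    have h1 := h.A_comm (h.norm' hs b.2) a.2
    show s⁻¹ * ((a : L) * b) * s * (a * b) = s⁻¹ * a * s * a * (s⁻¹ * b * s * b)
    calc s⁻¹ * ((a : L) * b) * s * (a * b) = (s⁻¹ * a * s) * ((s⁻¹ * b * s) * a) * b := by group
      _ = _ := by rw [h1]; group)

theorem dl_mem {s : L} (hs : s ∈ (S : Subgroup L)) (hs2 : s * s ∈ A) (a : A) :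
    ((h.dl s hs a : A) : L) ∈ A ⊓ centralizer ({s} : Set L) := by
  refine mem_inf.2 ⟨(h.dl s hs a).2, mem_centralizer_singleton_iff.2 ?_⟩
  show s⁻¹ * a * s * a * s = s * (s⁻¹ * a * s * a)
  have h1 : s * s * (a : L) = a * (s * s) := h.A_comm hs2 a.2
  have h2 := h.A_comm (h.norm' hs a.2) a.2
  have h3 : s * (a : L) = s⁻¹ * a * (s * s) := by
    rw [mul_assoc, ← h1]; group
  calc s⁻¹ * a * s * a * s = (a : L) * (s⁻¹ * a * s) * s := by rw [← h2]
    _ = a * (s⁻¹ * a * (s * s)) := by group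
    _ = a * (s * a) := by rw [← h3]
    _ = s * (s⁻¹ * a * s * a) := by group

theorem dl_ker {s : L} (hs : s ∈ (S : Subgroup L)) (a : A) :
    h.dl s hs a = 1 ↔ (a : L) ∈ A ⊓ centralizer ({s} : Set L) := by
  have h0 := h.A_sq a.2
  have h1 : (a : L)⁻¹ = a := inv_eq_of_mul_eq_one_right h0
  constructor
  · intro e
    refine mem_inf.2 ⟨a.2, mem_centralizer_singleton_iff.2 ?_⟩
    have e1 : s⁻¹ * (a : L) * s * a = 1 := congrArg Subtype.val e
    have e2 : s⁻¹ * (a : L) * s = a := (eq_inv_of_mul_eq_one_left e1).trans h1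
    have e3 : s * (s⁻¹ * (a : L) * s) = s * a := by rw [e2]
    rw [← e3]; group
  · intro hc
    have hc := mem_centralizer_singleton_iff.1 (mem_inf.1 hc).2
    apply Subtype.ext
    show s⁻¹ * (a : L) * s * a = 1
    rw [mul_assoc s⁻¹, hc]
    rw [inv_mul_cancel_left, h0]

theorem card_eq_mul {s : L} (hs : s ∈ (S : Subgroup L)) :
    Nat.card A = Nat.card (h.dl s hs).range * Nat.card ↥(A ⊓ centralizer ({s} : Set L)) := by
  have h1 : (h.dl s hs).ker = (A ⊓ centralizer ({s} : Set L)).subgroupOf A := by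
    ext a
    rw [MonoidHom.mem_ker, h.dl_ker, mem_subgroupOf]
  have h2 : Nat.card ↥((A ⊓ centralizer ({s} : Set L)).subgroupOf A) = Nat.card ↥(A ⊓ centralizer ({s} : Set L)) :=
    Nat.card_congr (subgroupOfEquivOfLe inf_le_left).toEquiv
  rw [← h2, ← h1, mul_comm, ← index_ker, card_mul_index]

theorem card_le_sq {s : L} (hs : s ∈ (S : Subgroup L)) (hs2 : s * s ∈ A) :
    Nat.card A ≤ Nat.card ↥(A ⊓ centralizer ({s} : Set L)) ^ 2 := by
  rw [h.card_eq_mul hs, pow_two]
  apply Nat.mul_le_mul_right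
  have h1 : (h.dl s hs).range.map A.subtype ≤ A ⊓ centralizer ({s} : Set L) := by
    rintro _ ⟨_, ⟨a, rfl⟩, rfl⟩
    exact h.dl_mem hs hs2 a
  calc Nat.card (h.dl s hs).range = Nat.card ((h.dl s hs).range.map A.subtype) :=
        Nat.card_congr ((h.dl s hs).range.equivMapOfInjective _ A.subtype_injective).toEquiv
    _ ≤ _ := card_le_of_le h1

/-- an involution in `s A` -/
theorem exists_inv {s : L} (hs : s ∈ (S : Subgroup L)) (hsA : s ∉ A) (hs2 : s * s ∈ A) :
    ∃ a ∈ A, (s * a) * (s * a) = 1 := by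
  have hle : (h.dl s hs).range.map A.subtype ≤ A ⊓ centralizer ({s} : Set L) := by
    rintro _ ⟨_, ⟨a, rfl⟩, rfl⟩
    exact h.dl_mem hs hs2 a
  have hc1 : Nat.card (h.dl s hs).range = Nat.card ((h.dl s hs).range.map A.subtype) :=
    Nat.card_congr ((h.dl s hs).range.equivMapOfInjective _ A.subtype_injective).toEquiv
  have h2 := h.fix s hs hsA
  rw [h.card_eq_mul hs, pow_two] at h2
  have h3 := Nat.le_of_mul_le_mul_right h2 Nat.card_pos
  rw [hc1] at h3
  have h4 := Subgroup.eq_of_le_of_card_ge hle h3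
  have h5 : (s * s)⁻¹ ∈ A ⊓ centralizer ({s} : Set L) := by
    refine mem_inf.2 ⟨inv_mem hs2, mem_centralizer_singleton_iff.2 ?_⟩
    group
  rw [← h4] at h5
  obtain ⟨_, ⟨a, rfl⟩, ha⟩ := h5
  refine ⟨a, a.2, ?_⟩
  have ha' : s⁻¹ * (a : L) * s * a = (s * s)⁻¹ := ha
  calc s * (a : L) * (s * a) = s * s * (s⁻¹ * a * s * a) := by group
    _ = 1 := by rw [ha', mul_inv_cancel]

/-- strongly closed -/
def Strong (_ : Inp V S A φ) : Prop := ∀ a ∈ A, ∀ g : L, g * a * g⁻¹ ∈ (S : Subgroup L) → g * a * g⁻¹ ∈ A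

theorem odd_index : Odd (S : Subgroup L).index := by
  rw [← Nat.not_even_iff_odd, even_iff_two_dvd]
  exact S.not_dvd_index

/-- the kernel of the transfer to `S / A` -/
theorem exists_Y (hst : h.Strong) : ∃ Y : Subgroup L, Y.Normal ∧ A ≤ Y ∧ ∀ s ∈ (S : Subgroup L), s ∈ Y → s ∈ A := by
  have hfi : (S : Subgroup L).FiniteIndex := inferInstance
  refine ⟨(MonoidHom.transfer φ).ker, inferInstance, ?_, ?_⟩
  · intro a ha
    rw [MonoidHom.mem_ker]
    refine SmallSimple.TransferInvol.transfer_eq_of_odd_index _ φ a ?_ h.odd_index 1 (one_pow 2) ?_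
    · rw [pow_two]; exact h.A_sq ha
    · intro x hx
      obtain ⟨g, hg⟩ := isConj_iff.1 hx
      rw [h.ker, ← hg]
      exact hst a ha g (by rw [hg]; exact x.2)
  · -- the crucial part
    have key : ∀ s ∈ (S : Subgroup L), s ∉ A → s * s ∈ A → s ∉ (MonoidHom.transfer φ).ker := by
      intro s hs hsA hs2 hsY
      obtain ⟨a, ha, ht⟩ := h.exists_inv hs hsA hs2
      have haY : a ∈ (MonoidHom.transfer φ).ker := by
        rw [MonoidHom.mem_ker]
        refine SmallSimple.TransferInvol.transfer_eq_of_odd_index _ φ a ?_ h.odd_index 1 (one_pow 2) ?_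
        · rw [pow_two]; exact h.A_sq ha
        · intro x hx
          obtain ⟨g, hg⟩ := isConj_iff.1 hx
          rw [h.ker, ← hg]
          exact hst a ha g (by rw [hg]; exact x.2)
      have htY : s * a ∈ (MonoidHom.transfer φ).ker := mul_mem hsY haY
      have htS : s * a ∈ (S : Subgroup L) := mul_mem hs (h.AS ha)
      have htA : s * a ∉ A := fun e => hsA ((Subgroup.mul_mem_cancel_right _ ha).1 e)
      have h1 : φ ⟨s * a, htS⟩ ≠ 1 := fun e => htA ((h.ker _).1 e)
      apply h1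
      rw [MonoidHom.mem_ker] at htY
      rw [← htY]
      symm
      refine SmallSimple.TransferInvol.transfer_eq_of_odd_index _ φ (s * a) (by rw [pow_two]; exact ht) h.odd_index
        _ ?_ ?_
      · rw [← map_pow, pow_two]
        have e : (⟨s * a, htS⟩ * ⟨s * a, htS⟩ : ↥(S : Subgroup L)) = 1 := Subtype.ext ht
        rw [e, map_one]
      · intro x hx
        obtain ⟨g, hg⟩ := isConj_iff.1 hx
        have hx2 : (x : L) * x = 1 := by
          rw [← hg]
          have e : g * (s * a) * g⁻¹ * (g * (s * a) * g⁻¹) = g * ((s * a) * (s * a)) * g⁻¹ := by group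
          rw [e, ht, mul_one, mul_inv_cancel]
        have hxA : (x : L) ∉ A := by
          intro hxA
          have h2 := hst x hxA g⁻¹ (by
            rw [← hg]
            have e : g⁻¹ * (g * (s * a) * g⁻¹) * g⁻¹⁻¹ = s * a := by group
            rw [e]; exact htS)
          rw [← hg] at h2
          have e : g⁻¹ * (g * (s * a) * g⁻¹) * g⁻¹⁻¹ = s * a := by group
          rw [e] at h2
          exact htA h2
        exact h.uniq x.2 hxA (by rw [hx2]; exact one_mem _) htS htA (by rw [ht]; exact one_mem _)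
    intro s hs hsY
    by_contra hsA
    -- the last power outside `A`
    obtain ⟨n, hn⟩ : ∃ n : ℕ, s ^ 2 ^ n = 1 := by
      obtain ⟨n, hn⟩ := S.isPGroup' ⟨s, hs⟩
      exact ⟨n, congrArg Subtype.val hn⟩
    have hex : ∃ n : ℕ, s ^ 2 ^ n ∈ A := ⟨n, by rw [hn]; exact one_mem _⟩
    classical
    obtain ⟨m, hm⟩ : ∃ m, Nat.find hex = m + 1 := by
      rcases hk : Nat.find hex with _ | m
      · have h1 := Nat.find_spec hex
        rw [hk, pow_zero, pow_one] at h1
        exact absurd h1 hsA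
      · exact ⟨m, rfl⟩
    have h1 := Nat.find_spec hex
    have h2 := Nat.find_min hex (m := m) (by omega)
    rw [hm, pow_succ, pow_mul, pow_two] at h1
    exact key (s ^ 2 ^ m) (pow_mem hs _) h2 h1 (pow_mem hsY _)

/-- **Strongly closed**: the fixed point spaces of different conjugates meet trivially. -/
theorem disj [Finite V] (hst : h.Strong) {g : L} (hg : cj g A ≠ A) : cv V (A : Set L) ⊓ cv V ((cj g A : Subgroup L) : Set L) = ⊥ := by
  obtain ⟨Y, hYn, hAY, hSY⟩ := h.exists_Y hst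
  have hcY : ∀ g, cj g A ≤ Y := fun g x hx => by
    have h1 := hYn.conj_mem _ (hAY (mem_cj.1 hx)) g
    have e : g * (g⁻¹ * x * g) * g⁻¹ = x := by group
    rwa [e] at h1
  -- 2-subgroups of `Y`
  have h2Y : ∀ Q : Subgroup Y, IsPGroup 2 Q → ∃ g, Q.map Y.subtype ≤ cj g A := by
    intro Q hQ
    obtain ⟨T, hT⟩ := (hQ.map Y.subtype).exists_le_sylow
    obtain ⟨x, rfl⟩ := MulAction.exists_smul_eq L S T
    rw [coe_smul_sylow] at hT
    refine ⟨x, fun y hy => ?_⟩
    obtain ⟨s, hs, hsy⟩ := hT hy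
    have h1 : (MulAut.conj x).toMonoidHom s = y := hsy
    have h2 : y = x * s * x⁻¹ := by rw [← h1]; simp
    have h3 : s ∈ Y := by
      have h4 := hYn.conj_mem y (by obtain ⟨z, -, rfl⟩ := hy; exact z.2) x⁻¹
      rw [h2] at h4
      have e : x⁻¹ * (x * s * x⁻¹) * x⁻¹⁻¹ = s := by group
      rwa [e] at h4
    rw [h2]
    exact conj_mem_cj (hSY s hs h3)
  have hsyl : ∀ T : Sylow 2 Y, ∃ g, ∀ y : Y, y ∈ (T : Subgroup Y) ↔ (y : L) ∈ cj g A := by
    intro T
    obtain ⟨g, hg⟩ := h2Y T T.isPGroup'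
    refine ⟨g, ?_⟩
    have h1 : (T : Subgroup Y) ≤ (cj g A).subgroupOf Y := fun y hy => hg ⟨y, hy, rfl⟩
    have h2 : IsPGroup 2 ((cj g A).subgroupOf Y) :=
      (isPGroup_cj h.isPGroup).of_injective ((subgroupOfEquivOfLe (hcY g)).toMonoidHom)
        (subgroupOfEquivOfLe (hcY g)).injective
    have h3 := T.is_maximal' h2 h1
    intro y
    rw [← h3, mem_subgroupOf]
  have hsyl' : ∀ g : L, ∃ T : Sylow 2 Y, ∀ y : Y, y ∈ (T : Subgroup Y) ↔ (y : L) ∈ cj g A := by
    intro g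
    have h2 : IsPGroup 2 ((cj g A).subgroupOf Y) :=
      (isPGroup_cj h.isPGroup).of_injective ((subgroupOfEquivOfLe (hcY g)).toMonoidHom)
        (subgroupOfEquivOfLe (hcY g)).injective
    obtain ⟨T, hT⟩ := h2.exists_le_sylow
    obtain ⟨k, hk⟩ := hsyl T
    have h3 : cj g A ≤ cj k A := by
      intro x hx
      have h4 : (⟨x, hcY g hx⟩ : Y) ∈ (T : Subgroup Y) := hT hx
      exact (hk _).1 h4
    have h4 : cj g A = cj k A := Subgroup.eq_of_le_of_card_ge h3 (by rw [card_cj, card_cj])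
    exact ⟨T, fun y => by rw [hk, h4]⟩
  have hcard : ∀ (T : Sylow 2 Y) (g : L), (∀ y : Y, y ∈ (T : Subgroup Y) ↔ (y : L) ∈ cj g A) →
      Nat.card T = Nat.card A := by
    intro T g hT
    have h1 : (T : Subgroup Y) = (cj g A).subgroupOf Y := by
      ext y
      rw [hT, mem_subgroupOf]
    show Nat.card (T : Subgroup Y) = _
    rw [h1, Nat.card_congr (subgroupOfEquivOfLe (hcY g)).toEquiv, card_cj]
  have hcv : ∀ (T : Sylow 2 Y) (g : L), (∀ y : Y, y ∈ (T : Subgroup Y) ↔ (y : L) ∈ cj g A) →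
      cv V ((T : Subgroup Y) : Set Y) = cv V ((cj g A : Subgroup L) : Set L) := by
    intro T g hT
    ext v
    constructor
    · intro hv a ha
      exact hv ⟨a, hcY g ha⟩ ((hT _).2 ha)
    · intro hv a ha
      exact hv a ((hT a).1 ha)
  have hidx : ∀ g : L, (cv V ((cj g A : Subgroup L) : Set L)).index = Nat.card A := by
    intro g
    rw [← h.idx]
    exact QData.index_cv_map_conj A g
  have hN : NData Y V := by
    refine ⟨h.comm, h.sq, fun x hx => Subtype.ext (h.faith x hx), ?_, ?_, ?_, ?_⟩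
    · intro Q hQ x hx y hy v
      obtain ⟨g, hg⟩ := h2Y Q hQ
      have h1 := mem_cj.1 (hg ⟨x, hx, rfl⟩)
      have h2 := mem_cj.1 (hg ⟨y, hy, rfl⟩)
      have h3 := h.quad _ h1 _ h2 (g⁻¹ • v)
      have h4 := congrArg (fun w => g • w) h3
      unfold d at h4 ⊢
      simp only [smul_mul', smul_smul] at h4
      have e1 : g * (g⁻¹ * (Y.subtype y) * g * (g⁻¹ * (Y.subtype x) * g * g⁻¹)) = (y : L) * x := by
        show g * (g⁻¹ * (y : L) * g * (g⁻¹ * (x : L) * g * g⁻¹)) = _
        group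
      have e2 : g * (g⁻¹ * (Y.subtype y) * g * g⁻¹) = (y : L) := by
        show g * (g⁻¹ * (y : L) * g * g⁻¹) = _
        group
      have e3 : g * (g⁻¹ * (Y.subtype x) * g * g⁻¹) = (x : L) := by
        show g * (g⁻¹ * (x : L) * g * g⁻¹) = _
        group
      rw [e1, e2, e3, mul_inv_cancel, one_smul] at h4
      show (y : L) • ((x : L) • v * v) = (x : L) • v * v
      rw [smul_mul', smul_smul]
      exact h4
    · intro T
      obtain ⟨g, hg⟩ := hsyl T
      rw [hcv T g hg, hidx, hcard T g hg]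
    · intro T t ht ht1
      obtain ⟨g, hg⟩ := hsyl T
      rw [hcv T g hg]
      ext v
      have h1 := mem_cj.1 ((hg t).1 ht)
      have h2 : g⁻¹ * (t : L) * g ≠ 1 := by
        intro e
        apply ht1
        apply Subtype.ext
        have e2 : (t : L) = g * (g⁻¹ * t * g) * g⁻¹ := by group
        rw [e2, e, mul_one, mul_inv_cancel]; rfl
      rw [mem_cv_cj, ← h.reg _ h1 h2, mem_cv_singleton, mem_cv_singleton, smul_smul, mul_assoc, mul_inv_cancel, mul_one,
        mul_smul, smul_left_cancel_iff]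
      rfl
    · obtain ⟨T, hT⟩ := hsyl' 1
      obtain ⟨T', hT'⟩ := hsyl' g
      refine ⟨T, T', fun e => hg ?_⟩
      ext x
      have h1 := hT
      rw [cj_one] at h1
      constructor
      · intro hx
        have h2 := (hT' ⟨x, hcY g hx⟩).2 hx
        rw [← e] at h2
        exact (h1 _).1 h2
      · intro hx
        have h2 := (h1 ⟨x, hAY hx⟩).2 hx
        rw [e] at h2
        exact (hT' _).1 h2
  obtain ⟨T, hT⟩ := hsyl' 1
  obtain ⟨T', hT'⟩ := hsyl' g
  have hne : T ≠ T' := by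
    intro e
    apply hg
    ext x
    have h1 := hT
    rw [cj_one] at h1
    constructor
    · intro hx
      have h2 := (hT' ⟨x, hcY g hx⟩).2 hx
      rw [← e] at h2
      exact (h1 _).1 h2
    · intro hx
      have h2 := (h1 ⟨x, hAY hx⟩).2 hx
      rw [e] at h2
      exact (hT' _).1 h2
  have h5 := hN.index_inf hne
  rw [hcv T 1 hT, hcv T' g hT', hcard T 1 hT, cj_one, ← h.card] at h5
  have h6 := card_mul_index (cv V (A : Set L) ⊓ cv V ((cj g A : Subgroup L) : Set L))
  rw [h5] at h6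
  have h7 : 0 < Nat.card V := Nat.card_pos
  have h8 : Nat.card ↥(cv V (A : Set L) ⊓ cv V ((cj g A : Subgroup L) : Set L)) = 1 :=
    Nat.eq_of_mul_eq_mul_right h7 (by rw [h6, one_mul])
  exact card_eq_one.1 h8

/-- **Not strongly closed**: `|A| = 4`. -/
theorem card_eq_four (hst : ¬ h.Strong) : Nat.card A = 4 := by
  have h4 := h.four
  unfold Strong at hst
  push Not at hst
  obtain ⟨a, ha, g, htS, htA⟩ := hst
  set t := g * a * g⁻¹ with ht
  have ha1 : a ≠ 1 := by
    intro e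
    apply htA
    rw [ht, e, mul_one, mul_inv_cancel]
    exact one_mem _
  have ht2 : t * t = 1 := by
    have e : t * t = g * (a * a) * g⁻¹ := by rw [ht]; group
    rw [e, h.A_sq ha, mul_one, mul_inv_cancel]
  have ht1 : t ≠ 1 := fun e => htA (by rw [e]; exact one_mem _)
  have htB : t ∈ cj g A := conj_mem_cj ha
  have h1 := h.card_le_sq htS (by rw [ht2]; exact one_mem _)
  set U := A ⊓ centralizer ({t} : Set L) with hU
  -- `U` normalises `B = A^g`
  have hnB : ∀ u ∈ U, cj u (cj g A) = cj g A := by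
    intro u hu
    rw [← cj_mul]
    have hc := mem_centralizer_singleton_iff.1 (mem_inf.1 hu).2
    refine h.ti (g := u * g) (k := g) (a := t) ?_ htB ht1
    rw [cj_mul, mem_cj]
    have e : u⁻¹ * t * u = t := by rw [mul_assoc, ← hc, inv_mul_cancel_left]
    rw [e]; exact htB
  have hp : IsPGroup 2 ↥(U ⊔ cj g A) := by
    apply IsPGroup.to_sup_of_normal_right' (h.isPGroup.to_le inf_le_left) (isPGroup_cj h.isPGroup)
    intro u hu
    rw [mem_normalizer_iff]
    intro x
    have h2 := hnB u hu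
    constructor
    · intro hx
      rw [← h2]
      exact conj_mem_cj hx
    · intro hx
      have h3 : u * x * u⁻¹ ∈ cj u (cj g A) := by rw [h2]; exact hx
      have h4 := mem_cj.1 h3
      have e : u⁻¹ * (u * x * u⁻¹) * u = x := by group
      rwa [e] at h4
  obtain ⟨x, hx1, hx2⟩ := h.exists_syl hp (le_sup_right : cj g A ≤ _)
  have h5 : Nat.card (cj x⁻¹ U) ≤ 2 := by
    apply h.card_le_two ((cj_mono le_sup_left).trans hx2)
    · intro u hu
      have h6 := mem_cj.1 hu
      have h7 := h.A_sq (mem_inf.1 h6).1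
      have e : u * u = x⁻¹ * (x⁻¹⁻¹ * u * x⁻¹ * (x⁻¹⁻¹ * u * x⁻¹)) * x := by group
      rw [e, h7, mul_one, inv_mul_cancel]
    · intro u hu huA
      by_contra hu1
      have h6 := mem_cj.1 hu
      rw [inv_inv] at h6
      have h7 : x * u * x⁻¹ ∈ cj g A := by rw [← hx1]; exact conj_mem_cj huA
      have h8 : x * u * x⁻¹ ≠ 1 := by
        intro e
        apply hu1
        have e2 : u = x⁻¹ * (x * u * x⁻¹) * x := by group
        rw [e2, e, mul_one, inv_mul_cancel]
      have h9 := h.ti (g := 1) (k := g) (by rw [cj_one]; exact (mem_inf.1 h6).1) h7 h8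
      rw [cj_one] at h9
      apply htA
      rw [h9]
      exact htB
  rw [card_cj] at h5
  have h6 : Nat.card U ^ 2 ≤ 2 ^ 2 := Nat.pow_le_pow_left h5 2
  omega

end Inp

end Cfsg.Agent.Omega.NatPair.NormAbs

end

section


/-!
# `SL₂(F)` on its natural module inside a bigger linear group (LEMMA NORM, bb OMEGA #12618)

`Co F L V`: `L` acts faithfully on `V`, `V` is identified with `F²` (`e`) and `L` contains `E = SL₂(F)` (`m`).  If a Sylow
2-subgroup of `L` normalises `E` then `E` is normal in `L` or `|F| = 4` (`Co.norm_or`).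
-/

set_option autoImplicit false
set_option linter.unusedSectionVars false

namespace Cfsg.Agent.Omega.NatPair.NormLev

open Subgroup Cfsg.Agent.Lib.SL2Mat
open NormAbs
open Cfsg.Agent.ClassTwoFusion.Quad (cv d mem_cv_singleton)

/-- coordinates -/
structure Co (F L V : Type*) [Field F] [Group L] [Group V] [MulDistribMulAction L V] where
  e : (Fin 2 → F) ≃ V
  e_add : ∀ x y, e (x + y) = e x * e y
  m : Matrix.SpecialLinearGroup (Fin 2) F → L
  m_smul : ∀ A x, m A • e x = e (ap A x)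
  faith : ∀ g : L, (∀ v : V, g • v = v) → g = 1

namespace Co

variable {F L V : Type*} [Field F] [Group L] [Group V] [MulDistribMulAction L V] (M : Co F L V)

/-- the action in coordinates -/
def T (g : L) (x : Fin 2 → F) : Fin 2 → F := M.e.symm (g • M.e x)

theorem e_T (g : L) (x : Fin 2 → F) : M.e (M.T g x) = g • M.e x := M.e.apply_symm_apply _

theorem T_add (g : L) (x y : Fin 2 → F) : M.T g (x + y) = M.T g x + M.T g y := by
  apply M.e.injective
  rw [M.e_add, M.e_T, M.e_T, M.e_T, M.e_add, smul_mul']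

theorem T_mul (g h : L) (x : Fin 2 → F) : M.T (g * h) x = M.T g (M.T h x) := by
  apply M.e.injective
  rw [M.e_T, M.e_T, M.e_T, mul_smul]

theorem T_one (x : Fin 2 → F) : M.T 1 x = x := by
  apply M.e.injective
  rw [M.e_T, one_smul]

theorem T_inv_T (g : L) (x : Fin 2 → F) : M.T g⁻¹ (M.T g x) = x := by rw [← M.T_mul, inv_mul_cancel, M.T_one]

theorem T_T_inv (g : L) (x : Fin 2 → F) : M.T g (M.T g⁻¹ x) = x := by rw [← M.T_mul, mul_inv_cancel, M.T_one]

theorem T_zero (g : L) : M.T g 0 = 0 := by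
  have := M.T_add g 0 0
  rw [add_zero] at this
  exact left_eq_add.1 this

theorem T_ne_zero {g : L} {x : Fin 2 → F} (hx : x ≠ 0) : M.T g x ≠ 0 := by
  intro h
  apply hx
  rw [← M.T_inv_T g x, h, M.T_zero]

theorem ext {g h : L} (H : ∀ x, M.T g x = M.T h x) : g = h := by
  have h1 : h⁻¹ * g = 1 := M.faith _ (fun v => by
    obtain ⟨x, rfl⟩ := M.e.surjective v
    rw [mul_smul, ← M.e_T, H, M.e_T, inv_smul_smul])
  rw [inv_mul_eq_one] at h1
  exact h1.symm

theorem T_m (A : Matrix.SpecialLinearGroup (Fin 2) F) (x : Fin 2 → F) : M.T (M.m A) x = ap A x := by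
  apply M.e.injective
  rw [M.e_T, M.m_smul]

theorem m_mul (A B : Matrix.SpecialLinearGroup (Fin 2) F) : M.m (A * B) = M.m A * M.m B :=
  M.ext (fun x => by rw [M.T_mul, M.T_m, M.T_m, M.T_m, ap_mul])

theorem m_one : M.m 1 = 1 := M.ext (fun x => by rw [M.T_m, M.T_one, ap_one])

theorem m_inj {A B : Matrix.SpecialLinearGroup (Fin 2) F} (h : M.m A = M.m B) : A = B :=
  ap_inj (fun x => by rw [← M.T_m, h, M.T_m])

/-- the embedding of `SL₂(F)` -/
def mHom : Matrix.SpecialLinearGroup (Fin 2) F →* L := MonoidHom.mk' M.m M.m_mul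

theorem m_inv (A : Matrix.SpecialLinearGroup (Fin 2) F) : M.m A⁻¹ = (M.m A)⁻¹ := map_inv M.mHom A

/-- `E ≅ SL₂(F)` -/
def E : Subgroup L := M.mHom.range

theorem mem_E {g : L} : g ∈ M.E ↔ ∃ A, M.m A = g := Iff.rfl

theorem m_mem (A : Matrix.SpecialLinearGroup (Fin 2) F) : M.m A ∈ M.E := ⟨A, rfl⟩

/-- the elements of `N_L(E)` are semilinear -/
theorem exists_sg [Finite F] {g : L} (hg : g ∈ normalizer (M.E : Set L)) :
    ∃ s : F ≃+* F, ∀ (c : F) x, M.T g (c • x) = s c • M.T g x := by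
  obtain ⟨σ, hσ⟩ := NatPair.exists_semi (M.T g) (M.T g⁻¹) (M.T_add g) (M.T_inv_T g) (M.T_T_inv g) (by
    intro A
    have h1 : g⁻¹ * M.m A * g⁻¹⁻¹ ∈ M.E := (mem_normalizer_iff.1 (inv_mem hg) _).1 (M.m_mem A)
    obtain ⟨B, hB⟩ := M.mem_E.1 h1
    refine ⟨B, fun x => ?_⟩
    rw [← M.T_m B, hB, inv_inv, M.T_mul, M.T_mul, M.T_m])
  exact exists_ringEquiv (M.T g) (M.T g⁻¹) (M.T_add g) (M.T_inv_T g) σ hσ

/-- the field automorphism of `g` -/
noncomputable def sg [Finite F] (g : normalizer (M.E : Set L)) : F ≃+* F := (M.exists_sg g.2).choose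

theorem sg_spec [Finite F] (g : normalizer (M.E : Set L)) (c : F) (x : Fin 2 → F) :
    M.T g (c • x) = M.sg g c • M.T g x := (M.exists_sg g.2).choose_spec c x

theorem e1_ne : (![1, 0] : Fin 2 → F) ≠ 0 := by
  intro h
  have := congrFun h 0
  simp at this

theorem sg_eq [Finite F] {g : normalizer (M.E : Set L)} {s : F ≃+* F}
    (h : ∀ (c : F) x, M.T g (c • x) = s c • M.T g x) : M.sg g = s := by
  ext c
  have h1 := M.sg_spec g c ![1, 0]
  rw [h] at h1
  exact (smul_left_injective F (M.T_ne_zero e1_ne) h1).symm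

/-- the homomorphism `N_L(E) → Aut F` -/
noncomputable def sgHom [Finite F] : normalizer (M.E : Set L) →* RingAut F where
  toFun := M.sg
  map_one' := by
    apply M.sg_eq
    intro c x
    show M.T 1 (c • x) = c • M.T 1 x
    rw [M.T_one, M.T_one]
  map_mul' g h := by
    apply M.sg_eq
    intro c x
    show M.T ((g : L) * h) (c • x) = M.sg g (M.sg h c) • M.T ((g : L) * h) x
    rw [M.T_mul, M.T_mul, M.sg_spec, M.sg_spec]

/-- the transvections with axis `F e₁` -/
def Up : Subgroup L where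
  carrier := {g | ∃ a : F, M.m (up a) = g}
  one_mem' := ⟨0, by rw [up_zero, M.m_one]⟩
  mul_mem' := by
    rintro _ _ ⟨a, rfl⟩ ⟨b, rfl⟩
    exact ⟨a + b, by rw [← up_mul, M.m_mul]⟩
  inv_mem' := by
    rintro _ ⟨a, rfl⟩
    exact ⟨-a, by rw [← up_inv, M.m_inv]⟩

theorem Up_le : M.Up ≤ M.E := by
  rintro _ ⟨a, rfl⟩
  exact M.m_mem _

theorem ap_up (a : F) (x : Fin 2 → F) : ap (up a) x = ![x 0 + a * x 1, x 1] := by
  apply ext2
  · rw [ap_zero']; simp
  · rw [ap_one']; simp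

theorem card_Up : Nat.card M.Up = Nat.card F := by
  refine (Nat.card_congr (Equiv.ofBijective (fun a : F => (⟨M.m (up a), a, rfl⟩ : M.Up)) ⟨?_, ?_⟩)).symm
  · intro a b h
    exact up_inj (M.m_inj (congrArg Subtype.val h))
  · rintro ⟨_, a, rfl⟩
    exact ⟨a, rfl⟩

include M in
theorem card_V : Nat.card V = Nat.card F * Nat.card F := by
  rw [← Nat.card_congr M.e, Nat.card_fun]
  simp [pow_two]

theorem mem_cv_Up {x : Fin 2 → F} : M.e x ∈ cv V (M.Up : Set L) ↔ x 1 = 0 := by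
  constructor
  · intro h
    have h1 := h _ ⟨1, rfl⟩
    rw [M.m_smul] at h1
    have h2 := congrFun (M.e.injective h1) 0
    rw [ap_up] at h2
    simpa using h2
  · rintro h _ ⟨a, rfl⟩
    rw [M.m_smul, ap_up, h, mul_zero, add_zero]
    congr 1
    apply ext2 <;> simp [h]

theorem mem_cv_up {a : F} (ha : a ≠ 0) {x : Fin 2 → F} : M.e x ∈ cv V ({M.m (up a)} : Set L) ↔ x 1 = 0 := by
  constructor
  · intro h
    have h1 := h _ rfl
    rw [M.m_smul] at h1
    have h2 := congrFun (M.e.injective h1) 0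
    rw [ap_up] at h2
    simpa [ha] using h2
  · intro h g hg
    exact M.mem_cv_Up.2 h g (by rw [hg]; exact ⟨a, rfl⟩)

section finite

variable [Finite F] [CharP F 2] [Finite L]

theorem dvd_card : 2 ∣ Nat.card F := by
  have : Fintype F := Fintype.ofFinite F
  obtain ⟨n, -, hn⟩ := FiniteField.card F 2
  rw [Nat.card_eq_fintype_card, hn]
  exact dvd_pow_self 2 n.pos.ne'

theorem isPGroup_Up : IsPGroup 2 M.Up := by
  have : Fact (Nat.Prime 2) := ⟨Nat.prime_two⟩
  have : Fintype F := Fintype.ofFinite F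
  obtain ⟨n, -, hn⟩ := FiniteField.card F 2
  exact IsPGroup.of_card (n := n) (by rw [M.card_Up, Nat.card_eq_fintype_card, hn])

/-- a Sylow 2-subgroup containing the standard root group -/
theorem exists_good (S : Sylow 2 L) (hS : (S : Subgroup L) ≤ normalizer (M.E : Set L)) :
    ∃ T : Sylow 2 L, M.Up ≤ (T : Subgroup L) ∧ (T : Subgroup L) ≤ normalizer (M.E : Set L) := by
  have : Fact (Nat.Prime 2) := ⟨Nat.prime_two⟩
  set H : Subgroup L := normalizer (M.E : Set L) with hH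
  have hUH : M.Up ≤ H := M.Up_le.trans le_normalizer
  have hp : IsPGroup 2 (M.Up.subgroupOf H) := M.isPGroup_Up.of_equiv (subgroupOfEquivOfLe hUH).symm
  obtain ⟨Q, hQ⟩ := hp.exists_le_sylow
  obtain ⟨h, hh⟩ := MulAction.exists_smul_eq H (S.subtype hS) Q
  refine ⟨(h : L) • S, ?_, ?_⟩
  · intro u hu
    have h1 : (⟨u, hUH hu⟩ : H) ∈ (Q : Subgroup H) := hQ (mem_subgroupOf.2 hu)
    rw [← hh, Sylow.coe_subgroup_smul] at h1
    have h2 := Subgroup.mem_pointwise_smul_iff_inv_smul_mem.1 h1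
    have h3 : ((MulAut.conj h)⁻¹ • (⟨u, hUH hu⟩ : H) : H).1 ∈ (S : Subgroup L) := h2
    rw [Sylow.coe_subgroup_smul]
    apply Subgroup.mem_pointwise_smul_iff_inv_smul_mem.2
    exact h3
  · intro s hs
    rw [Sylow.coe_subgroup_smul] at hs
    have h1 := Subgroup.mem_pointwise_smul_iff_inv_smul_mem.1 hs
    rw [← map_inv, MulAut.smul_def, MulAut.conj_apply, inv_inv] at h1
    have h2 := mul_mem (mul_mem h.2 (hS h1)) (inv_mem h.2)
    have h3 : (h : L) * ((h : L)⁻¹ * s * h) * (h : L)⁻¹ = s := by group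
    rwa [h3] at h2

variable {S : Sylow 2 L} (hU : M.Up ≤ (S : Subgroup L)) (hS : (S : Subgroup L) ≤ normalizer (M.E : Set L))
include hU hS

/-- `S ∩ E` is the standard root group -/
theorem mem_Up_of {g : L} (hg : g ∈ (S : Subgroup L)) (hgE : g ∈ M.E) : g ∈ M.Up := by
  have : Fact (Nat.Prime 2) := ⟨Nat.prime_two⟩
  let D : Subgroup L := (S : Subgroup L) ⊓ M.E
  let _ : MulAction D (Fin 2 → F) :=
    { smul := fun s x => M.T s x
      one_smul := fun x => M.T_one x
      mul_smul := fun s t x => M.T_mul s t x }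
  have hcard : 2 ∣ Nat.card (Fin 2 → F) := by
    rw [show Nat.card (Fin 2 → F) = Nat.card F * Nat.card F by simp only [Nat.card_fun, pow_two, _root_.Nat.card_fun, _root_.Nat.card_eq_fintype_card, _root_.Fintype.card_fin, _root_.pow_two]]
    exact (dvd_card (F := F)).mul_left _
  have hD : IsPGroup 2 D := S.isPGroup'.to_le inf_le_left
  obtain ⟨x, hx, hx0⟩ := hD.exists_fixed_point_of_prime_dvd_card_of_fixed_point (Fin 2 → F) hcard (a := 0)
    (fun s => M.T_zero s)
  have hfix : ∀ s ∈ D, M.T s x = x := fun s hs => hx ⟨s, hs⟩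
  have h1 := hfix (M.m (up 1)) (mem_inf.2 ⟨hU ⟨1, rfl⟩, M.m_mem _⟩)
  rw [M.T_m, ap_up] at h1
  have hx1 : x 1 = 0 := by
    have := congrFun h1 0
    simpa using this
  have hx00 : x 0 ≠ 0 := fun h => hx0 (ext2 h.symm hx1.symm)
  obtain ⟨B, rfl⟩ := M.mem_E.1 hgE
  have h2 := hfix _ (mem_inf.2 ⟨hg, hgE⟩)
  rw [M.T_m] at h2
  have h3 := congrFun h2 0
  have h4 := congrFun h2 1
  rw [ap_zero', hx1, mul_zero, add_zero] at h3
  rw [ap_one', hx1, mul_zero, add_zero] at h4
  have h5 : ent B 0 0 = 1 := by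
    have : (ent B 0 0 - 1) * x 0 = 0 := by rw [sub_mul, h3]; ring
    exact sub_eq_zero.1 ((mul_eq_zero.1 this).resolve_right hx00)
  have h6 : ent B 1 0 = 0 := (mul_eq_zero.1 h4).resolve_right hx00
  have h7 : ent B 1 1 = 1 := by
    have := det_eq B
    rw [h5, h6] at this
    linear_combination this
  exact ⟨ent B 0 1, congrArg M.m (ext_ent (by rw [up_00, h5]) (by rw [up_01]) (by rw [up_10, h6]) (by rw [up_11, h7]))⟩

/-- `S` normalises the standard root group -/
theorem conj_Up {s : L} (hs : s ∈ (S : Subgroup L)) {u : L} (hu : u ∈ M.Up) : s * u * s⁻¹ ∈ M.Up :=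
  M.mem_Up_of hU hS (mul_mem (mul_mem hs (hU hu)) (inv_mem hs)) ((mem_normalizer_iff.1 (hS hs) u).1 (M.Up_le hu))

theorem T_e1 {s : L} (hs : s ∈ (S : Subgroup L)) {x : Fin 2 → F} (hx : x 1 = 0) : M.T s x 1 = 0 := by
  obtain ⟨a, ha⟩ := M.conj_Up hU hS (inv_mem hs) (⟨1, rfl⟩ : M.m (up 1) ∈ M.Up)
  have h1 : M.T (M.m (up 1)) (M.T s x) = M.T s x := by
    have e : M.m (up 1) * s = s * M.m (up a) := by rw [ha]; group
    rw [← M.T_mul, e, M.T_mul, M.T_m]
    congr 1
    rw [ap_up, hx, mul_zero, add_zero]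
    apply ext2 <;> simp [hx]
  rw [M.T_m, ap_up] at h1
  have := congrFun h1 0
  simpa using this

/-- the semilinear normal form of the elements of `S` -/
theorem normal_form {s : L} (hs : s ∈ (S : Subgroup L)) : ∃ (σ : F ≃+* F) (γ β δ : F), σ = M.sg ⟨s, hS hs⟩ ∧ γ ≠ 0 ∧ δ ≠ 0 ∧
    ∀ x, M.T s x = ![σ (x 0) * γ + σ (x 1) * β, σ (x 1) * δ] := by
  set σ := M.sg ⟨s, hS hs⟩ with hσ
  have h1 : M.T s ![1, 0] 1 = 0 := M.T_e1 hU hS hs rfl
  have key : ∀ x, M.T s x = ![σ (x 0) * M.T s ![1, 0] 0 + σ (x 1) * M.T s ![0, 1] 0, σ (x 1) * M.T s ![0, 1] 1] := by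
    intro x
    have h2 : x = x 0 • ![1, 0] + x 1 • ![0, 1] := by
      apply ext2 <;> simp
    have h3 := M.sg_spec ⟨s, hS hs⟩
    nth_rewrite 1 [h2]
    rw [M.T_add, h3, h3]
    apply ext2
    · simp only [hσ, _root_.Fin.isValue, _root_.Nat.succ_eq_add_one, _root_.Nat.reduceAdd, _root_.Pi.add_apply, _root_.Pi.smul_apply, _root_.smul_eq_mul, _root_.Matrix.cons_val_zero]
    · simp only [hσ, h1, _root_.Fin.isValue, _root_.Nat.succ_eq_add_one, _root_.Nat.reduceAdd, _root_.Pi.add_apply, _root_.Pi.smul_apply, _root_.smul_eq_mul, _root_.MulZeroClass.mul_zero, _root_.zero_add, _root_.Matrix.cons_val_one, _root_.Matrix.cons_val_fin_one]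
  refine ⟨σ, _, _, _, rfl, ?_, ?_, key⟩
  · intro h
    exact M.T_ne_zero (g := s) e1_ne (ext2 h h1)
  · intro h
    have h2 := M.T_T_inv s ![0, 1]
    have h3 := congrFun h2 1
    rw [key] at h3
    simp [h] at h3

theorem T_pow {s : L} {γ β δ : F} (h : ∀ x, M.T s x = ![x 0 * γ + x 1 * β, x 1 * δ]) (n : ℕ) :
    (∀ x, M.T (s ^ n) x 1 = x 1 * δ ^ n) ∧ M.T (s ^ n) ![1, 0] = ![γ ^ n, 0] := by
  induction n with
  | zero =>
    constructor
    · intro x; rw [pow_zero, M.T_one, pow_zero, mul_one]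
    · rw [pow_zero, M.T_one, pow_zero]
  | succ n ih =>
    constructor
    · intro x
      rw [pow_succ', M.T_mul, h]
      simp only [Matrix.cons_val_one, Matrix.cons_val_fin_one, ih.1, pow_succ]
      ring
    · rw [pow_succ', M.T_mul, ih.2, h]
      apply ext2
      · simp [pow_succ]
      · simp

theorem eq_one_of_pow {γ : F} {k : ℕ} (h : γ ^ 2 ^ k = 1) : γ = 1 := by
  have h1 : (γ - 1) ^ 2 ^ k = 0 := by
    rw [sub_pow_char_pow, h, one_pow, sub_self]
  exact sub_eq_zero.1 (pow_eq_zero_iff (by positivity) |>.1 h1)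

/-- a linear element of `S` is in the standard root group -/
theorem mem_Up_of_sg {s : L} (hs : s ∈ (S : Subgroup L)) (h : M.sg ⟨s, hS hs⟩ = 1) : s ∈ M.Up := by
  obtain ⟨σ, γ, β, δ, hσ, -, -, hT⟩ := M.normal_form hU hS hs
  rw [h] at hσ
  have hT' : ∀ x, M.T s x = ![x 0 * γ + x 1 * β, x 1 * δ] := by
    intro x
    rw [hT, hσ]; rfl
  obtain ⟨k, hk⟩ := S.isPGroup' ⟨s, hs⟩
  have hk' : s ^ 2 ^ k = 1 := congrArg Subtype.val hk
  obtain ⟨h1, h2⟩ := M.T_pow hU hS hT' (2 ^ k)
  have h3 := h1 ![0, 1]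
  rw [hk', M.T_one] at h2 h3
  have hγ : γ = 1 := by
    have := congrFun h2 0
    exact M.eq_one_of_pow hU hS (k := k) (by simpa using this.symm)
  have hδ : δ = 1 := M.eq_one_of_pow hU hS (k := k) (by simpa using h3.symm)
  refine ⟨β, M.ext (fun x => ?_)⟩
  rw [M.T_m, hT', ap_up, hγ, hδ]
  apply ext2
  · simp [mul_comm]
  · simp

/-- the homomorphism to the field automorphisms, with values in a cyclic group -/
noncomputable def ph : ↥(S : Subgroup L) →* Multiplicative (ZMod (Nat.card (RingAut F))) :=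
  ((zmodCyclicMulEquiv (LieRecognition.FieldSemilinear.isCyclic_ringAut F)).symm.toMonoidHom.comp M.sgHom).comp
    (Subgroup.inclusion hS)

theorem ph_eq_one {s : ↥(S : Subgroup L)} : M.ph hS s = 1 ↔ M.sg ⟨s, hS s.2⟩ = 1 := by
  show (zmodCyclicMulEquiv (LieRecognition.FieldSemilinear.isCyclic_ringAut F)).symm (M.sgHom ⟨s, hS s.2⟩) = 1 ↔ _
  rw [MulEquiv.map_eq_one_iff]
  rfl

theorem sg_of_mem_Up {s : L} (hs : s ∈ (S : Subgroup L)) (h : s ∈ M.Up) : M.sg ⟨s, hS hs⟩ = 1 := by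
  apply M.sg_eq
  obtain ⟨a, rfl⟩ := h
  intro c x
  show M.T (M.m (up a)) (c • x) = c • M.T (M.m (up a)) x
  rw [M.T_m, M.T_m, ap_smul]

/-- the fixed points of a field automorphism on the root group -/
theorem fix_le {s : L} (hs : s ∈ (S : Subgroup L)) (hsU : s ∉ M.Up) :
    Nat.card ↥(M.Up ⊓ centralizer ({s} : Set L)) ^ 2 ≤ Nat.card M.Up := by
  obtain ⟨σ, γ, β, δ, hσ, hγ, hδ, hT⟩ := M.normal_form hU hS hs
  have hσ1 : σ ≠ 1 := fun e => hsU (M.mem_Up_of_sg hU hS hs (by rw [← hσ, e]))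
  obtain ⟨b, hb⟩ : ∃ b, σ b ≠ b := by
    by_contra hc
    push Not at hc
    exact hσ1 (RingEquiv.ext hc)
  rw [M.card_Up, pow_two, ← Nat.card_prod]
  have hc : ∀ u : ↥(M.Up ⊓ centralizer ({s} : Set L)), ∃ α : F, M.m (up α) = (u : L) ∧ σ α * γ = α * δ := by
    intro u
    obtain ⟨α, hα⟩ := (mem_inf.1 u.2).1
    refine ⟨α, hα, ?_⟩
    have h1 := mem_centralizer_singleton_iff.1 (mem_inf.1 u.2).2
    rw [← hα] at h1
    have h2 : M.T (M.m (up α) * s) ![0, 1] = M.T (s * M.m (up α)) ![0, 1] := by rw [h1]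
    rw [M.T_mul, M.T_mul, M.T_m, M.T_m, ap_up, ap_up, hT, hT] at h2
    have h3 := congrFun h2 0
    simp only [Matrix.cons_val_zero, Matrix.cons_val_one, Matrix.cons_val_fin_one, map_zero, map_one, zero_mul, one_mul,
      zero_add, mul_one] at h3
    linear_combination -h3
  choose α hα hα' using hc
  refine Nat.card_le_card_of_injective (fun p => α p.1 + α p.2 * b) ?_
  rintro ⟨u, u'⟩ ⟨v, v'⟩ h
  have h : α u + α u' * b = α v + α v' * b := h
  have key : α u' = α v' := by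
    by_contra hne
    have h1 : α u' - α v' ≠ 0 := sub_ne_zero.2 hne
    have h2 : (α u' - α v') * b = α v - α u := by linear_combination h
    have h3 : σ (α u' - α v') * γ = (α u' - α v') * δ := by
      rw [map_sub]; linear_combination hα' u' - hα' v'
    have h4 : σ (α v - α u) * γ = (α v - α u) * δ := by
      rw [map_sub]; linear_combination hα' v - hα' u
    rw [← h2, map_mul] at h4
    apply hb
    have h5 : (α u' - α v') * δ * (σ b - b) = 0 := by
      linear_combination h4 - σ b * h3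
    rcases mul_eq_zero.1 h5 with h6 | h6
    · exact absurd h6 (mul_ne_zero h1 hδ)
    · exact sub_eq_zero.1 h6
  have key2 : α u = α v := by
    rw [key] at h
    exact add_right_cancel h
  have e1 : u = v := Subtype.ext (by rw [← hα, ← hα, key2])
  have e2 : u' = v' := Subtype.ext (by rw [← hα, ← hα, key])
  rw [e1, e2]

theorem card_cv_Up : Nat.card (cv V (M.Up : Set L)) = Nat.card F := by
  refine (Nat.card_congr (Equiv.ofBijective
    (fun c : F => (⟨M.e ![c, 0], M.mem_cv_Up.2 rfl⟩ : cv V (M.Up : Set L))) ⟨?_, ?_⟩)).symm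
  · intro c d h
    have := congrFun (M.e.injective (congrArg Subtype.val h)) 0
    simpa using this
  · rintro ⟨v, hv⟩
    obtain ⟨x, rfl⟩ := M.e.surjective v
    have h1 := M.mem_cv_Up.1 hv
    refine ⟨x 0, Subtype.ext ?_⟩
    show M.e ![x 0, 0] = M.e x
    congr 1
    apply ext2 <;> simp [h1]

/-- the input of `NormAbs` -/
theorem inp (h4 : 4 ≤ Nat.card F) : Inp V S M.Up (M.ph hS) where
  comm v w := by
    obtain ⟨x, rfl⟩ := M.e.surjective v
    obtain ⟨y, rfl⟩ := M.e.surjective w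
    rw [← M.e_add, ← M.e_add, add_comm]
  sq v := by
    obtain ⟨x, rfl⟩ := M.e.surjective v
    have h1 : M.e 0 = 1 := by
      have := M.e_add 0 0
      rw [add_zero] at this
      exact left_eq_mul.1 this
    rw [← M.e_add, show x + x = 0 from funext fun i => CharTwo.add_self_eq_zero (x i), h1]
  faith := M.faith
  AS := hU
  ker s := by
    rw [M.ph_eq_one hU hS]
    exact ⟨fun h => M.mem_Up_of_sg hU hS s.2 h, fun h => M.sg_of_mem_Up hU hS s.2 h⟩
  cyc := inferInstance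
  quad := by
    rintro _ ⟨a, rfl⟩ b hb v
    obtain ⟨x, rfl⟩ := M.e.surjective v
    have h1 : d (M.m (up a)) (M.e x) = M.e (ap (up a) x + x) := by
      unfold d
      rw [M.m_smul, M.e_add]
    rw [h1]
    exact M.mem_cv_Up.2 (by rw [ap_up]; simp [CharTwo.add_self_eq_zero]) b hb
  reg := by
    rintro _ ⟨a, rfl⟩ ha
    have ha0 : a ≠ 0 := by
      rintro rfl
      exact ha (by rw [up_zero, M.m_one])
    ext v
    obtain ⟨x, rfl⟩ := M.e.surjective v
    rw [M.mem_cv_up ha0, M.mem_cv_Up]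
  idx := by
    have : Finite V := Finite.of_equiv _ M.e
    have h1 := card_mul_index (cv V (M.Up : Set L))
    rw [M.card_cv_Up hU hS, M.card_V] at h1
    rw [M.card_Up]
    exact Nat.eq_of_mul_eq_mul_left Nat.card_pos h1
  card := by rw [M.card_V, M.card_Up]
  lin := by
    intro s hs h1 _
    apply M.mem_Up_of_sg hU hS hs
    obtain ⟨σ, γ, β, δ, hσ, hγ, -, hT⟩ := M.normal_form hU hS hs
    rw [← hσ]
    have h2 : ∀ c : F, σ c * γ = c := by
      intro c
      have h3 := h1 (M.e ![c, 0]) (M.mem_cv_Up.2 rfl)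
      rw [← M.e_T] at h3
      have h4 := congrFun (M.e.injective h3) 0
      rw [hT] at h4
      simpa only [_root_.Nat.succ_eq_add_one, _root_.Nat.reduceAdd, _root_.Fin.isValue, _root_.Matrix.cons_val_zero, _root_.Matrix.cons_val_one, _root_.Matrix.cons_val_fin_one, _root_.map_zero, _root_.MulZeroClass.zero_mul, _root_.add_zero] using h4
    have h3 : γ = 1 := by
      have := h2 1
      rwa [map_one, one_mul] at this
    ext c
    have := h2 c
    rw [h3, mul_one] at this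
    rw [this]; rfl
  fix := fun s hs hsU => M.fix_le hU hS hs hsU
  four := by rw [M.card_Up]; exact h4

omit hU hS in
/-- `E` is generated by two conjugates of the root group -/
theorem m_mem_of {K : Subgroup L} (h1 : ∀ a, M.m (up a) ∈ K) (h2 : ∀ a, M.m (lo a) ∈ K)
    (A : Matrix.SpecialLinearGroup (Fin 2) F) : M.m A ∈ K := by
  obtain ⟨a, b, c, d, rfl⟩ := exists_up_lo A
  rw [M.m_mul, M.m_mul, M.m_mul]
  exact mul_mem (mul_mem (mul_mem (h1 a) (h2 b)) (h1 c)) (h2 d)

omit hU hS [Finite L] in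
theorem lo_mem_cj (a : F) : M.m (lo a) ∈ NormAbs.cj (M.m (wm 1 one_ne_zero)) M.Up := by
  rw [NormAbs.mem_cj]
  refine ⟨-a, ?_⟩
  have h1 : lo a = wm 1 one_ne_zero * up (-a) * (wm 1 one_ne_zero)⁻¹ := by
    rw [wm_up, mul_assoc, mul_inv_cancel, mul_one]
    congr 1
    simp
  rw [h1, M.m_mul, M.m_mul, M.m_inv]
  group

omit hU hS [Finite L] in
theorem cj_Up_le_E (A : Matrix.SpecialLinearGroup (Fin 2) F) : NormAbs.cj (M.m A) M.Up ≤ M.E := by
  intro x hx
  obtain ⟨a, ha⟩ := NormAbs.mem_cj.1 hx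
  refine ⟨A * up a * A⁻¹, ?_⟩
  show M.m _ = _
  rw [M.m_mul, M.m_mul, M.m_inv, ha]
  group

/-- **strongly closed**: `E` is normal -/
theorem norm_of_strong (h4 : 4 ≤ Nat.card F) (hst : (M.inp hU hS h4).Strong) (g : L) (A : Matrix.SpecialLinearGroup (Fin 2) F) :
    g * M.m A * g⁻¹ ∈ M.E := by
  have hfV : Finite V := Finite.of_equiv _ M.e
  set h := M.inp hU hS h4 with hh
  -- conjugates of the root group lie in `E`
  have key : ∀ k : L, NormAbs.cj k M.Up ≤ M.E := by
    intro k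
    have h1 : k⁻¹⁻¹ • M.e ![1, 0] ∈ cv V ((NormAbs.cj k M.Up : Subgroup L) : Set L) := by
      rw [NormAbs.mem_cv_cj, inv_inv, inv_smul_smul]
      exact M.mem_cv_Up.2 rfl
    rw [inv_inv, ← M.e_T] at h1
    obtain ⟨P, hP⟩ := exists_ap_e (M.T_ne_zero (g := k) e1_ne)
    have h2 : NormAbs.cj ((M.m P)⁻¹ * k) M.Up = M.Up := by
      by_contra hne
      have h3 := h.disj hst hne
      have h4 : M.e ![1, 0] ∈ cv V (M.Up : Set L) ⊓ cv V ((NormAbs.cj ((M.m P)⁻¹ * k) M.Up : Subgroup L) : Set L) := by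
        refine mem_inf.2 ⟨M.mem_cv_Up.2 rfl, ?_⟩
        rw [NormAbs.cj_mul, NormAbs.mem_cv_cj, inv_inv, M.m_smul, hP]
        exact h1
      rw [h3, mem_bot] at h4
      have h5 : M.e 0 = 1 := by
        have := M.e_add 0 0
        rw [add_zero] at this
        exact left_eq_mul.1 this
      rw [← h5] at h4
      exact e1_ne (M.e.injective h4)
    have h3 : NormAbs.cj k M.Up = NormAbs.cj (M.m P) M.Up := by
      have e : k = M.m P * ((M.m P)⁻¹ * k) := by group
      rw [e, NormAbs.cj_mul, h2]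
    rw [h3]
    exact M.cj_Up_le_E P
  have h1 := M.m_mem_of (K := M.E.comap (MulAut.conj g).toMonoidHom)
    (fun a => key g (NormAbs.conj_mem_cj ⟨a, rfl⟩)) (fun a => by
      have h2 := NormAbs.mem_cj.1 (M.lo_mem_cj a)
      have h3 := NormAbs.conj_mem_cj (g := g * M.m (wm 1 one_ne_zero)) h2
      have e : g * M.m (wm 1 one_ne_zero) * ((M.m (wm 1 one_ne_zero))⁻¹ * M.m (lo a) * M.m (wm 1 one_ne_zero)) *
        (g * M.m (wm 1 one_ne_zero))⁻¹ = g * M.m (lo a) * g⁻¹ := by group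
      rw [e] at h3
      exact key _ h3) A
  exact h1

omit hU hS [Finite L] in
/-- `|F| = 2`: `E` is everything -/
theorem mem_E_of_two (h2 : Nat.card F = 2) (g : L) : g ∈ M.E := by
  classical
  have : Fintype F := Fintype.ofFinite F
  have hF : ∀ c : F, c = 0 ∨ c = 1 := by
    intro c
    by_contra hc
    push Not at hc
    have h3 : ({0, 1, c} : Finset F).card ≤ Fintype.card F := Finset.card_le_univ _
    rw [← Nat.card_eq_fintype_card, h2] at h3
    have h4 : ({0, 1, c} : Finset F).card = 3 := by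
      rw [Finset.card_eq_three]
      exact ⟨0, 1, c, zero_ne_one, hc.1.symm, hc.2.symm, rfl⟩
    omega
  have hsm : ∀ (c : F) x, M.T g (c • x) = c • M.T g x := by
    intro c x
    rcases hF c with rfl | rfl
    · rw [zero_smul, zero_smul, M.T_zero]
    · rw [one_smul, one_smul]
  set p := M.T g ![1, 0] with hp
  set q := M.T g ![0, 1] with hq
  have hT : ∀ x, M.T g x = x 0 • p + x 1 • q := by
    intro x
    have h2 : x = x 0 • ![1, 0] + x 1 • ![0, 1] := by
      apply ext2 <;> simp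
    nth_rewrite 1 [h2]
    rw [M.T_add, hsm, hsm]
  have hdet : p 0 * q 1 - q 0 * p 1 ≠ 0 := by
    intro hd
    have h5 : M.T g ![q 1, -(p 1)] = 0 := by
      rw [hT]
      apply ext2
      · simp only [Pi.add_apply, Pi.smul_apply, smul_eq_mul, Matrix.cons_val_zero, Matrix.cons_val_one,
          Matrix.cons_val_fin_one, Pi.zero_apply]
        linear_combination hd
      · simp only [Pi.add_apply, Pi.smul_apply, smul_eq_mul, Matrix.cons_val_zero, Matrix.cons_val_one,
          Matrix.cons_val_fin_one, Pi.zero_apply]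
        ring
    have h6 : M.T g ![q 0, -(p 0)] = 0 := by
      rw [hT]
      apply ext2
      · simp only [Pi.add_apply, Pi.smul_apply, smul_eq_mul, Matrix.cons_val_zero, Matrix.cons_val_one,
          Matrix.cons_val_fin_one, Pi.zero_apply]
        ring
      · simp only [Pi.add_apply, Pi.smul_apply, smul_eq_mul, Matrix.cons_val_zero, Matrix.cons_val_one,
          Matrix.cons_val_fin_one, Pi.zero_apply]
        linear_combination -hd
    have h7 : (![q 1, -(p 1)] : Fin 2 → F) = 0 := by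
      by_contra hne
      exact M.T_ne_zero hne h5
    have h8 : (![q 0, -(p 0)] : Fin 2 → F) = 0 := by
      by_contra hne
      exact M.T_ne_zero hne h6
    have h9 : p = 0 := by
      apply ext2
      · have := congrFun h8 1
        simpa using this
      · have := congrFun h7 1
        simpa using this
    exact M.T_ne_zero (g := g) e1_ne h9
  have hdet1 : p 0 * q 1 - q 0 * p 1 = 1 := (hF _).resolve_left hdet
  refine ⟨Lib.SL2Mat.mk (p 0) (q 0) (p 1) (q 1) hdet1, M.ext (fun x => ?_)⟩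
  show M.T (M.m _) x = _
  rw [M.T_m, hT]
  apply ext2
  · rw [ap_zero']; simp only [mul_comm, _root_.Fin.isValue, _root_.Cfsg.Agent.Lib.SL2Mat.mk_00, _root_.mul_comm, _root_.Cfsg.Agent.Lib.SL2Mat.mk_01, _root_.Pi.add_apply, _root_.Pi.smul_apply, _root_.smul_eq_mul]
  · rw [ap_one']; simp only [mul_comm, _root_.Fin.isValue, _root_.Cfsg.Agent.Lib.SL2Mat.mk_10, _root_.mul_comm, _root_.Cfsg.Agent.Lib.SL2Mat.mk_11, _root_.Pi.add_apply, _root_.Pi.smul_apply, _root_.smul_eq_mul]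

end finite

end Co

end Cfsg.Agent.Omega.NatPair.NormLev

end

section


/-!
# LEMMA NORM, the exceptional case `|F| = 4` (bb OMEGA #12618 (d))
-/

set_option autoImplicit false
set_option linter.unusedSectionVars false

namespace Cfsg.Agent.Omega.NatPair.NormExc

open Subgroup Cfsg.Agent.Lib.SL2Mat
open NormAbs NormLev
open Cfsg.Agent.ClassTwoFusion.Quad (cv d mem_cv_singleton)

/-- a matrix from its values on a basis -/
theorem exists_ap2 {F : Type*} [Field F] {f₁ f₂ g₁ g₂ : Fin 2 → F} (hf : dt f₁ f₂ ≠ 0) (h : dt g₁ g₂ = dt f₁ f₂) :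
    ∃ A : Matrix.SpecialLinearGroup (Fin 2) F, ap A f₁ = g₁ ∧ ap A f₂ = g₂ := by
  unfold dt at hf h
  refine ⟨mk ((g₁ 0 * f₂ 1 - g₂ 0 * f₁ 1) / (f₁ 0 * f₂ 1 - f₁ 1 * f₂ 0))
    ((g₂ 0 * f₁ 0 - g₁ 0 * f₂ 0) / (f₁ 0 * f₂ 1 - f₁ 1 * f₂ 0))
    ((g₁ 1 * f₂ 1 - g₂ 1 * f₁ 1) / (f₁ 0 * f₂ 1 - f₁ 1 * f₂ 0))
    ((g₂ 1 * f₁ 0 - g₁ 1 * f₂ 0) / (f₁ 0 * f₂ 1 - f₁ 1 * f₂ 0)) ?_, ?_, ?_⟩
  · rw [div_mul_div_comm, div_mul_div_comm, ← sub_div, div_eq_one_iff_eq (mul_ne_zero hf hf)]
    linear_combination (f₁ 0 * f₂ 1 - f₁ 1 * f₂ 0) * h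
  · apply ext2
    · rw [ap_zero', mk_00, mk_01, div_mul_eq_mul_div, div_mul_eq_mul_div, ← add_div, div_eq_iff hf]
      ring
    · rw [ap_one', mk_10, mk_11, div_mul_eq_mul_div, div_mul_eq_mul_div, ← add_div, div_eq_iff hf]
      ring
  · apply ext2
    · rw [ap_zero', mk_00, mk_01, div_mul_eq_mul_div, div_mul_eq_mul_div, ← add_div, div_eq_iff hf]
      ring
    · rw [ap_one', mk_10, mk_11, div_mul_eq_mul_div, div_mul_eq_mul_div, ← add_div, div_eq_iff hf]
      ring

/-- the field of order four -/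
theorem exists_pow {F : Type*} [Field F] [CharP F 2] (h4 : Nat.card F = 4) {κ : F} (h0 : κ ≠ 0) (h1 : κ ≠ 1) (η : F)
    (hη : η ≠ 0) : ∃ i : ℕ, κ ^ i = η := by
  classical
  have hfin : Finite F := Nat.finite_of_card_ne_zero (by omega)
  have : Fintype F := Fintype.ofFinite F
  have h2 : κ ^ 2 ≠ 0 := pow_ne_zero _ h0
  have h3 : κ ^ 2 ≠ 1 := by
    intro h
    have : (κ - 1) ^ 2 = 0 := by
      have h5 : (2 : F) = 0 := CharTwo.two_eq_zero
      linear_combination h + (1 - κ) * h5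
    exact h1 (sub_eq_zero.1 (pow_eq_zero_iff (by norm_num) |>.1 this))
  have h5 : κ ^ 2 ≠ κ := by
    intro h
    have : κ * (κ - 1) = 0 := by linear_combination h
    rcases mul_eq_zero.1 this with h | h
    · exact h0 h
    · exact h1 (sub_eq_zero.1 h)
  have h6 : ({0, 1, κ, κ ^ 2} : Finset F).card = 4 := by
    rw [Finset.card_insert_of_notMem, Finset.card_insert_of_notMem, Finset.card_insert_of_notMem, Finset.card_singleton]
    · simpa using h5.symm
    · simp only [Finset.mem_insert, Finset.mem_singleton, not_or]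
      exact ⟨h1.symm, h3.symm⟩
    · simp only [Finset.mem_insert, Finset.mem_singleton, not_or]
      exact ⟨zero_ne_one, h0.symm, h2.symm⟩
  have h7 : ({0, 1, κ, κ ^ 2} : Finset F) = Finset.univ := by
    apply Finset.eq_univ_of_card
    rw [h6, ← Nat.card_eq_fintype_card, h4]
  have h8 : η ∈ ({0, 1, κ, κ ^ 2} : Finset F) := by rw [h7]; exact Finset.mem_univ _
  simp only [Finset.mem_insert, Finset.mem_singleton] at h8
  rcases h8 with h | h | h | h
  · exact absurd h hη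
  · exact ⟨0, by rw [h, pow_zero]⟩
  · exact ⟨1, by rw [h, pow_one]⟩
  · exact ⟨2, h.symm⟩

/-- an automorphism of order 3 of a group of order four with a fixed involution is trivial -/
theorem comm_of_three {L : Type*} [Group L] {U : Subgroup L} [Finite U] (h4 : Nat.card U = 4) {c a u : L} (hc3 : c ^ 3 = 1)
    (hcU : ∀ x ∈ U, c * x * c⁻¹ ∈ U) (ha : a ∈ U) (ha1 : a ≠ 1) (hca : c * a = a * c) (hu : u ∈ U) :
    c * u = u * c := by
  classical
  set p := c * u * c⁻¹ with hp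
  set q := c * p * c⁻¹ with hq
  have hpU : p ∈ U := hcU u hu
  have hqU : q ∈ U := hcU p hpU
  have hqu : c * q * c⁻¹ = u := by
    have e : c * q * c⁻¹ = c ^ 3 * u * (c ^ 3)⁻¹ := by
      rw [hq, hp]; simp only [pow_succ, pow_zero]; group
    rw [e, hc3, one_mul, inv_one, mul_one]
  have hca' : c * a * c⁻¹ = a := by rw [hca]; group
  have inj : ∀ x y : L, c * x * c⁻¹ = c * y * c⁻¹ → x = y := fun x y h => by
    have := mul_right_cancel h
    exact mul_left_cancel this
  suffices hs : p = u by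
    rw [hp, mul_inv_eq_iff_eq_mul] at hs
    exact hs
  by_contra hpu
  have hu1 : u ≠ 1 := by
    intro h
    apply hpu
    rw [hp, h, mul_one, mul_inv_cancel]
  have hua : u ≠ a := by
    intro h
    apply hpu
    rw [hp, h, hca']
  have hp1 : p ≠ 1 := by
    intro h
    apply hu1
    apply inj
    rw [← hp, h, mul_one, mul_inv_cancel]
  have hpa : p ≠ a := by
    intro h
    apply hua
    apply inj
    rw [← hp, h, hca']
  have hq1 : q ≠ 1 := by
    intro h
    apply hp1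
    apply inj
    rw [← hq, h, mul_one, mul_inv_cancel]
  have hqa : q ≠ a := by
    intro h
    apply hpa
    apply inj
    rw [← hq, h, hca']
  have hqp : q ≠ p := by
    intro h
    apply hpu
    apply inj
    rw [← hq, ← hp, h]
  have hqu' : q ≠ u := by
    intro h
    apply hpu
    rw [hp]
    rw [h] at hqu
    exact hqu
  have h5 : ({1, a, u, p, q} : Finset L).card = 5 := by
    rw [Finset.card_insert_of_notMem, Finset.card_insert_of_notMem, Finset.card_insert_of_notMem,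
      Finset.card_insert_of_notMem, Finset.card_singleton]
    · simpa using hqp.symm
    · simp only [Finset.mem_insert, Finset.mem_singleton, not_or]
      exact ⟨fun h => hpu h.symm, hqu'.symm⟩
    · simp only [Finset.mem_insert, Finset.mem_singleton, not_or]
      exact ⟨hua.symm, hpa.symm, hqa.symm⟩
    · simp only [Finset.mem_insert, Finset.mem_singleton, not_or]
      exact ⟨ha1.symm, hu1.symm, hp1.symm, hq1.symm⟩
  have h6 : (({1, a, u, p, q} : Finset L) : Set L) ⊆ (U : Set L) := by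
    intro x hx
    simp only [Finset.coe_insert, Finset.coe_singleton, Set.mem_insert_iff, Set.mem_singleton_iff] at hx
    rcases hx with rfl | rfl | rfl | rfl | rfl
    · exact one_mem U
    · exact ha
    · exact hu
    · exact hpU
    · exact hqU
  have h7 := Set.ncard_le_ncard h6 (Set.toFinite _)
  rw [Set.ncard_coe_finset, h5] at h7
  have h8 : (U : Set L).ncard = 4 := by rw [← h4]; rfl
  omega

variable {F L V : Type*} [Field F] [Group L] [Group V] [MulDistribMulAction L V] (M : Co F L V)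

/-- the elements centralising the root group -/
theorem T_of_comm {c : L} (hc : ∀ u ∈ M.Up, c * u = u * c) :
    ∃ (κ : F) (u : F → F), κ ≠ 0 ∧ ∀ x, M.T c x = ![x 0 * κ + u (x 1), x 1 * κ] := by
  have hc' : ∀ (α : F) x, M.T c (ap (up α) x) = ap (up α) (M.T c x) := by
    intro α x
    have h1 := hc _ (⟨α, rfl⟩ : M.m (up α) ∈ M.Up)
    have h2 : M.T (c * M.m (up α)) x = M.T (M.m (up α) * c) x := by rw [h1]
    rwa [M.T_mul, M.T_mul, M.T_m, M.T_m] at h2
  -- `h y`
  have h1 : ∀ α y : F, M.T c ![α * y, 0] = ![α * M.T c ![0, y] 1, 0] := by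
    intro α y
    have h2 := hc' α ![0, y]
    have e : ap (up α) ![0, y] = ![α * y, 0] + ![0, y] := by
      rw [Co.ap_up]
      apply ext2 <;> simp
    rw [e, M.T_add, Co.ap_up] at h2
    have h3 : M.T c ![α * y, 0] = ![M.T c ![0, y] 0 + α * M.T c ![0, y] 1, M.T c ![0, y] 1] - M.T c ![0, y] := by
      rw [← h2]; abel
    rw [h3]
    apply ext2 <;> simp
  refine ⟨M.T c ![0, 1] 1, fun y => M.T c ![0, y] 0, ?_, ?_⟩
  · intro h
    have h2 := h1 1 1
    rw [h, mul_zero, one_mul] at h2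
    apply M.T_ne_zero (g := c) Co.e1_ne
    rw [h2]
    apply ext2 <;> simp
  · intro x
    have h2 : ∀ α : F, M.T c ![α, 0] = ![α * M.T c ![0, 1] 1, 0] := by
      intro α
      have := h1 α 1
      rwa [mul_one] at this
    have h3 : M.T c ![0, x 1] 1 = x 1 * M.T c ![0, 1] 1 := by
      have h4 := h1 1 (x 1)
      rw [one_mul, one_mul, h2] at h4
      have := congrFun h4 0
      simpa using this.symm
    have e : x = ![x 0, 0] + ![0, x 1] := by
      apply ext2 <;> simp
    nth_rewrite 1 [e]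
    rw [M.T_add, h2]
    apply ext2
    · simp
    · simp [h3]

theorem T_comm_pow {c : L} {κ : F} {u : F → F} (h : ∀ x, M.T c x = ![x 0 * κ + u (x 1), x 1 * κ]) (hu : u 0 = 0)
    (n : ℕ) : (∀ x, M.T (c ^ n) x 1 = x 1 * κ ^ n) ∧ ∀ x, x 1 = 0 → M.T (c ^ n) x = ![x 0 * κ ^ n, 0] := by
  induction n with
  | zero =>
    constructor
    · intro x; rw [pow_zero, M.T_one, pow_zero, mul_one]
    · intro x hx
      rw [pow_zero, M.T_one, pow_zero, mul_one]
      apply ext2 <;> simp [hx]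
  | succ n ih =>
    constructor
    · intro x
      rw [pow_succ', M.T_mul, h]
      simp only [Matrix.cons_val_one, Matrix.cons_val_fin_one, ih.1, pow_succ]
      ring
    · intro x hx
      rw [pow_succ', M.T_mul, ih.2 x hx, h]
      apply ext2
      · simp [pow_succ, hu, mul_assoc]
      · simp

section finite

variable [Finite F] [CharP F 2] [Finite L]
variable {S : Sylow 2 L} (hU : M.Up ≤ (S : Subgroup L)) (hS : (S : Subgroup L) ≤ normalizer (M.E : Set L))

/-- **the exceptional case**: fusion of the lines with the other fours groups -/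
theorem exc (h4 : 4 ≤ Nat.card F) (hst : ¬ (M.inp hU hS h4).Strong) {ρ : F} (hρ : ρ ≠ 0) {v : Fin 2 → F} (hv : v 1 ≠ 0) :
    ∃ k : L, M.T k⁻¹ ![ρ, 0] 1 = 0 ∧ M.T k⁻¹ v 1 = 0 := by
  have hfV : Finite V := Finite.of_equiv _ M.e
  set h := M.inp hU hS h4 with hh
  have hA4 : Nat.card M.Up = 4 := h.card_eq_four hst
  have hF4 : Nat.card F = 4 := by rw [← M.card_Up, hA4]
  unfold Inp.Strong at hst
  push Not at hst
  obtain ⟨a, ha, g, htS, htA⟩ := hst
  set t := g * a * g⁻¹ with ht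
  have ha1 : a ≠ 1 := by
    intro e
    apply htA
    rw [ht, e, mul_one, mul_inv_cancel]
    exact one_mem _
  have ht2 : t * t = 1 := by
    have e : t * t = g * (a * a) * g⁻¹ := by rw [ht]; group
    rw [e, h.A_sq ha, mul_one, mul_inv_cancel]
  have ht1 : t ≠ 1 := fun e => htA (by rw [e]; exact one_mem _)
  have htB : t ∈ NormAbs.cj g M.Up := conj_mem_cj ha
  obtain ⟨σ, γ, β, δ, hσ, hγ, hδ, hT⟩ := M.normal_form hU hS htS
  have hσ1 : σ ≠ 1 := fun e => htA (M.mem_Up_of_sg hU hS htS (by rw [← hσ, e]))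
  have hTT : ∀ x, M.T t (M.T t x) = x := fun x => by rw [← M.T_mul, ht2, M.T_one]
  -- the fixed points of `t`
  have hW : ∀ x, M.T t x = x → M.T g⁻¹ x 1 = 0 := by
    intro x hx
    have h1 : M.T a (M.T g⁻¹ x) = M.T g⁻¹ x := by
      rw [← M.T_mul]
      have e : a * g⁻¹ = g⁻¹ * t := by rw [ht]; group
      rw [e, M.T_mul, hx]
    obtain ⟨α, rfl⟩ := ha
    have hα : α ≠ 0 := by
      rintro rfl
      exact ha1 (by rw [up_zero, M.m_one])
    rw [M.T_m, Co.ap_up] at h1
    have h2 := congrFun h1 0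
    simpa [hα] using h2
  have hW' : ∀ x, M.T g⁻¹ x 1 = 0 → M.T t x = x := by
    intro x hx
    have h1 : M.T a (M.T g⁻¹ x) = M.T g⁻¹ x := by
      obtain ⟨α, rfl⟩ := ha
      rw [M.T_m, Co.ap_up, hx, mul_zero, add_zero]
      apply ext2 <;> simp [hx]
    have e : t = g * (a * g⁻¹) := by rw [ht]; group
    rw [e, M.T_mul, M.T_mul, h1, M.T_T_inv]
  -- `r₀`
  obtain ⟨ρ₀, hρ0, hρt⟩ : ∃ ρ₀ : F, ρ₀ ≠ 0 ∧ M.T t ![ρ₀, 0] = ![ρ₀, 0] := by
    by_cases h1 : M.T t ![1, 0] = ![1, 0]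
    · exact ⟨1, one_ne_zero, h1⟩
    · have h2 : M.T t ![1, 0] = ![γ, 0] := by rw [hT]; apply ext2 <;> simp only [_root_.Nat.succ_eq_add_one, _root_.Nat.reduceAdd, _root_.Fin.isValue, _root_.Matrix.cons_val_zero, _root_.map_one, _root_.one_mul, _root_.Matrix.cons_val_one, _root_.Matrix.cons_val_fin_one, _root_.map_zero, _root_.MulZeroClass.zero_mul, _root_.add_zero]
      refine ⟨1 + γ, ?_, ?_⟩
      · intro h3
        apply h1
        rw [h2]
        have : γ = 1 := by
          have h5 : (2 : F) = 0 := CharTwo.two_eq_zero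
          linear_combination h3 - h5
        rw [this]
      · have h3 : (![1 + γ, 0] : Fin 2 → F) = ![1, 0] + M.T t ![1, 0] := by
          rw [h2]; apply ext2 <;> simp
        rw [h3, M.T_add, hTT, add_comm]
  -- `v₀`
  obtain ⟨v₀, hv0, hvt⟩ : ∃ v₀ : Fin 2 → F, v₀ 1 ≠ 0 ∧ M.T t v₀ = v₀ := by
    by_contra hc
    push Not at hc
    -- then `t` is trivial on the line
    have h1 : ∀ c : F, M.T t ![c, 0] = ![c, 0] := by
      -- the map `c ↦ T g (c, 0)` is a bijection onto the line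
      have h2 : ∀ c : F, M.T g ![c, 0] 1 = 0 := by
        intro c
        by_contra h3
        exact hc _ h3 (hW' _ (by rw [M.T_inv_T]; rfl))
      have h3 : Function.Injective (fun c : F => M.T g ![c, 0] 0) := by
        intro c d hcd
        have h5 : M.T g ![c, 0] = M.T g ![d, 0] := ext2 hcd (by rw [h2, h2])
        have h6 := congrArg (M.T g⁻¹) h5
        rw [M.T_inv_T, M.T_inv_T] at h6
        exact congrFun h6 0
      have h5 : Function.Surjective (fun c : F => M.T g ![c, 0] 0) := Finite.injective_iff_surjective.1 h3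
      intro c
      obtain ⟨d, hd⟩ := h5 c
      have h6 : (![c, 0] : Fin 2 → F) = M.T g ![d, 0] := by
        apply ext2
        · simpa using hd.symm
        · rw [h2]; rfl
      rw [h6]
      exact hW' _ (by rw [M.T_inv_T]; rfl)
    apply hσ1
    have h2 : ∀ c, σ c * γ = c := by
      intro c
      have h3 := congrFun (h1 c) 0
      rw [hT] at h3
      simpa only [_root_.Nat.succ_eq_add_one, _root_.Nat.reduceAdd, _root_.Fin.isValue, _root_.Matrix.cons_val_zero, _root_.Matrix.cons_val_one, _root_.Matrix.cons_val_fin_one, _root_.map_zero, _root_.MulZeroClass.zero_mul, _root_.add_zero] using h3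
    have h3 : γ = 1 := by
      have := h2 1
      rwa [map_one, one_mul] at this
    ext c
    have := h2 c
    rw [h3, mul_one] at this
    rw [this]; rfl
  -- `D` of order three in `C_E(t)`
  set f : Fin 2 → F := ![ρ₀, 0] with hf
  have hdt : dt f v₀ ≠ 0 := by
    unfold dt
    rw [hf]
    simpa using ⟨hρ0, hv0⟩
  have h20 : (2 : F) = 0 := CharTwo.two_eq_zero
  obtain ⟨D, hD1, hD2⟩ := exists_ap2 (f₁ := f) (f₂ := v₀) (g₁ := v₀) (g₂ := f + v₀) hdt (by
    unfold dt
    rw [Pi.add_apply, Pi.add_apply]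
    linear_combination (v₀ 0 * f 1 - v₀ 1 * f 0) * h20)
  have hD3 : M.m D ^ 3 = 1 := by
    apply M.ext
    intro x
    rw [M.T_one]
    refine fix_all hdt (fun x => M.T (M.m D ^ 3) x) (M.T_add _) ?_ ?_ ?_ x
    · intro c y
      rw [pow_succ, pow_two, M.T_mul, M.T_mul, M.T_mul, M.T_mul, M.T_m, M.T_m, M.T_m, M.T_m, M.T_m, M.T_m, ap_smul,
        ap_smul, ap_smul]
    · show M.T (M.m D ^ 3) f = f
      rw [pow_succ, pow_two, M.T_mul, M.T_mul, M.T_m, M.T_m, M.T_m, hD1, hD2, ap_add, hD1, hD2]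
      funext i
      simp only [Pi.add_apply]
      linear_combination (v₀ i) * h20
    · show M.T (M.m D ^ 3) v₀ = v₀
      rw [pow_succ, pow_two, M.T_mul, M.T_mul, M.T_m, M.T_m, M.T_m, hD2, ap_add, hD1, hD2, ap_add, ap_add, hD1, hD2]
      funext i
      simp only [Pi.add_apply]
      linear_combination (f i + v₀ i) * h20
  have hDt : M.m D * t = t * M.m D := by
    apply M.ext
    intro x
    obtain ⟨p, q, rfl⟩ := exists_comb hdt x
    have hsm : ∀ (c : F) y, M.T t (c • y) = σ c • M.T t y := by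
      intro c y
      rw [hσ]
      exact M.sg_spec ⟨t, hS htS⟩ c y
    rw [M.T_mul (M.m D) t, M.T_mul t (M.m D), M.T_m, M.T_m, ap_add, ap_smul, ap_smul, hD1, hD2, M.T_add, M.T_add, hsm,
      hsm, hsm, hsm, M.T_add, hρt, hvt, ap_add, ap_smul, ap_smul, hD1, hD2]
  have hD1' : M.m D ≠ 1 := by
    intro e
    have h1 : M.T (M.m D) f = f := by rw [e, M.T_one]
    rw [M.T_m, hD1] at h1
    rw [h1, hf] at hv0
    exact hv0 rfl
  -- `c`
  set c := g⁻¹ * M.m D * g with hc
  have hc3 : c ^ 3 = 1 := by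
    have e : c ^ 3 = g⁻¹ * (M.m D ^ 3) * g := by rw [hc]; simp only [pow_succ, pow_zero]; group
    rw [e, hD3, mul_one, inv_mul_cancel]
  have hc1 : c ≠ 1 := by
    intro e
    apply hD1'
    have e2 : M.m D = g * c * g⁻¹ := by rw [hc]; group
    rw [e2, e, mul_one, mul_inv_cancel]
  have hcB : NormAbs.cj c M.Up = M.Up := by
    have h1 : NormAbs.cj (M.m D * g) M.Up = NormAbs.cj g M.Up := by
      refine h.ti (a := t) ?_ htB ht1
      rw [NormAbs.cj_mul, NormAbs.mem_cj]
      have e : (M.m D)⁻¹ * t * M.m D = t := by rw [mul_assoc, ← hDt, inv_mul_cancel_left]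
      rw [e]; exact htB
    have e : c = g⁻¹ * (M.m D * g) := by rw [hc]; group
    rw [e, NormAbs.cj_mul, h1, NormAbs.cj_inv_cj]
  have hca : c * a = a * c := by
    have e : c * a * c⁻¹ = a := by
      have e1 : c * a * c⁻¹ = g⁻¹ * (M.m D * t * (M.m D)⁻¹) * g := by rw [hc, ht]; group
      rw [e1, hDt, mul_inv_cancel_right, ht]; group
    rwa [mul_inv_eq_iff_eq_mul] at e
  have hcU : ∀ u ∈ M.Up, c * u = u * c := by
    intro u hu
    refine comm_of_three hA4 hc3 (fun x hx => ?_) ha ha1 hca hu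
    rw [← hcB]
    exact conj_mem_cj hx
  obtain ⟨κ, w, hκ0, hTc⟩ := T_of_comm M hcU
  have hw0 : w 0 = 0 := by
    have h1 := hTc 0
    rw [M.T_zero] at h1
    have h2 := congrFun h1 0
    simpa using h2.symm
  have hκ1 : κ ≠ 1 := by
    rintro rfl
    apply hc1
    have h1 : c ^ 2 = 1 := by
      apply M.ext
      intro x
      rw [pow_two, M.T_mul, M.T_one, hTc, hTc]
      apply ext2
      · simp only [Matrix.cons_val_zero, Matrix.cons_val_one, Matrix.cons_val_fin_one, mul_one]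
        linear_combination (w (x 1)) * h20
      · simp
    calc c = c ^ 3 * (c ^ 2)⁻¹ := by group
      _ = 1 := by rw [hc3, h1]; simp
  -- the element moving `(f, v₀)` to `(ρ, v)`
  have hlm : ρ * ρ₀⁻¹ * (v 1 * (v₀ 1)⁻¹) ≠ 0 :=
    mul_ne_zero (mul_ne_zero hρ (inv_ne_zero hρ0)) (mul_ne_zero hv (inv_ne_zero hv0))
  obtain ⟨i, hi⟩ := exists_pow hF4 hκ0 hκ1 ((ρ * ρ₀⁻¹ * (v 1 * (v₀ 1)⁻¹)) ^ 2) (pow_ne_zero _ hlm)
  have hi2 : (κ ^ i) ^ 2 = ρ * ρ₀⁻¹ * (v 1 * (v₀ 1)⁻¹) := by
    have : Fintype F := Fintype.ofFinite F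
    rw [hi, ← pow_mul]
    have h1 := FiniteField.pow_card (ρ * ρ₀⁻¹ * (v 1 * (v₀ 1)⁻¹))
    rwa [← Nat.card_eq_fintype_card, hF4] at h1
  have hki : κ ^ i ≠ 0 := pow_ne_zero _ hκ0
  set b : F := ρ * ρ₀⁻¹ * (κ ^ i)⁻¹ with hb
  have hb0 : b ≠ 0 := mul_ne_zero (mul_ne_zero hρ (inv_ne_zero hρ0)) (inv_ne_zero hki)
  obtain ⟨hp1, hp2⟩ := T_comm_pow M hTc hw0 i
  set n := c ^ i * M.m (dg b hb0) with hn
  have hnf : M.T n f = ![ρ, 0] := by
    rw [hn, M.T_mul, M.T_m]
    have h1 : ap (dg b hb0) f = ![b * ρ₀, 0] := by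
      apply ext2
      · rw [ap_zero', hf]; simp
      · rw [ap_one', hf]; simp
    rw [h1, hp2 _ rfl]
    apply ext2
    · simp only [Matrix.cons_val_zero]
      rw [hb]
      field_simp
    · rfl
  have hnv : M.T n v₀ 1 = v 1 := by
    rw [hn, M.T_mul, M.T_m, hp1]
    have h1 : ap (dg b hb0) v₀ 1 = b⁻¹ * v₀ 1 := by
      rw [ap_one']; simp
    rw [h1, hb]
    have h2 : (κ ^ i) ^ 2 * (ρ₀ * v₀ 1) = ρ * v 1 := by
      rw [hi2]; field_simp
    field_simp
    linear_combination h2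
  set α : F := (v 0 - M.T n v₀ 0) * (v 1)⁻¹ with hα
  refine ⟨M.m (up α) * n * g, ?_, ?_⟩
  · have h1 : M.T (M.m (up α) * n) f = ![ρ, 0] := by
      rw [M.T_mul, hnf, M.T_m, Co.ap_up]
      apply ext2 <;> simp
    rw [← h1, ← M.T_mul]
    have e : (M.m (up α) * n * g)⁻¹ * (M.m (up α) * n) = g⁻¹ := by group
    rw [e]
    exact hW _ hρt
  · have h1 : M.T (M.m (up α) * n) v₀ = v := by
      rw [M.T_mul, M.T_m, Co.ap_up]
      apply ext2
      · simp only [Matrix.cons_val_zero]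
        rw [hnv, hα]
        field_simp
        ring
      · simp only [Matrix.cons_val_one, Matrix.cons_val_fin_one]
        rw [hnv]
    rw [← h1, ← M.T_mul]
    have e : (M.m (up α) * n * g)⁻¹ * (M.m (up α) * n) = g⁻¹ := by group
    rw [e]
    exact hW _ hvt

end finite

end Cfsg.Agent.Omega.NatPair.NormExc

end

section


/-!
# LEMMA NORM' (bb OMEGA #18813), parts (I) and (II)

(I) an element which maps every `F`-line onto an `F`-line normalises `SL₂(F)`;
(II) it is enough to look at the elements fixing one nonzero vector.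
-/

set_option autoImplicit false
set_option linter.unusedSectionVars false

namespace Cfsg.Agent.Omega.NatPair.NormLev

open Subgroup Cfsg.Agent.Lib.SL2Mat

/-- an additive map preserving every line of `F²` is a scalar -/
theorem exists_scalar_of_lines {F : Type*} [Field F] (φ : (Fin 2 → F) → (Fin 2 → F))
    (hadd : ∀ x y, φ (x + y) = φ x + φ y) (hl : ∀ x, ∃ d : F, φ x = d • x) : ∃ c : F, ∀ x, φ x = c • x := by
  have key : ∀ a b : F, φ ![a, b] = φ ![a, 0] + φ ![0, b] := by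
    intro a b
    rw [← hadd]
    congr 1
    apply ext2 <;> simp
  have h1 : ∀ a : F, φ ![a, 0] 1 = 0 := by
    intro a
    obtain ⟨d, hd⟩ := hl ![a, 0]
    rw [hd]; simp
  have h0 : ∀ b : F, φ ![0, b] 0 = 0 := by
    intro b
    obtain ⟨d, hd⟩ := hl ![0, b]
    rw [hd]; simp
  -- the two coordinates
  have hab : ∀ a b : F, φ ![a, b] = ![φ ![a, 0] 0, φ ![0, b] 1] := by
    intro a b
    rw [key]
    apply ext2
    · simp [h0]
    · simp [h1]
  -- the lines `F (1, m)`
  have hm : ∀ m : F, φ ![0, m] 1 = m * φ ![1, 0] 0 := by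
    intro m
    obtain ⟨d, hd⟩ := hl ![1, m]
    rw [hab] at hd
    have e0 := congrFun hd 0
    have e1 := congrFun hd 1
    simp only [Matrix.cons_val_zero, Matrix.cons_val_one, Matrix.cons_val_fin_one, Pi.smul_apply, smul_eq_mul,
      mul_one] at e0 e1
    rw [e0, e1, mul_comm]
  -- the lines `F (m, 1)`
  have hm' : ∀ m : F, φ ![m, 0] 0 = m * φ ![0, 1] 1 := by
    intro m
    obtain ⟨d, hd⟩ := hl ![m, 1]
    rw [hab] at hd
    have e0 := congrFun hd 0
    have e1 := congrFun hd 1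
    simp only [Matrix.cons_val_zero, Matrix.cons_val_one, Matrix.cons_val_fin_one, Pi.smul_apply, smul_eq_mul,
      mul_one] at e0 e1
    rw [e0, e1, mul_comm]
  have h11 : φ ![0, 1] 1 = φ ![1, 0] 0 := by rw [hm 1, one_mul]
  refine ⟨φ ![1, 0] 0, fun x => ?_⟩
  have hx : x = ![x 0, x 1] := by apply ext2 <;> simp
  rw [hx, hab]
  apply ext2
  · simp only [Matrix.cons_val_zero, Pi.smul_apply, smul_eq_mul]
    rw [hm' (x 0), h11, mul_comm]
  · simp only [Matrix.cons_val_one, Matrix.cons_val_fin_one, Pi.smul_apply, smul_eq_mul]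
    rw [hm (x 1), mul_comm]

namespace Co

variable {F L V : Type*} [Field F] [Group L] [Group V] [MulDistribMulAction L V] (M : Co F L V)

/-- `E` is generated by two conjugates of the root group -/
theorem m_mem_of' {K : Subgroup L} (h1 : ∀ a, M.m (up a) ∈ K) (h2 : ∀ a, M.m (lo a) ∈ K)
    (A : Matrix.SpecialLinearGroup (Fin 2) F) : M.m A ∈ K := by
  obtain ⟨a, b, c, d, rfl⟩ := exists_up_lo A
  rw [M.m_mul, M.m_mul, M.m_mul]
  exact mul_mem (mul_mem (mul_mem (h1 a) (h2 b)) (h1 c)) (h2 d)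

/-- the transvection `A up(a) A⁻¹` moves into the direction of `A e₁` -/
theorem T_conj_up (A : Matrix.SpecialLinearGroup (Fin 2) F) (a : F) (y : Fin 2 → F) :
    ap (A * up a * A⁻¹) y - y = (a * ap A⁻¹ y 1) • ap A ![1, 0] := by
  obtain ⟨z, rfl⟩ : ∃ z, ap A z = y := ⟨ap A⁻¹ y, ap_ap_inv A y⟩
  rw [ap_mul, ap_mul, ap_inv_ap]
  have h1 : ap (up a) z = z + (a * z 1) • ![1, 0] := by
    rw [ap_up]
    apply ext2 <;> simp
  rw [h1, ap_add, ap_smul]
  abel

/-- a semilinear `g` conjugates transvections to transvections -/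
theorem conj_up_mem {g : L} {s s' : F → F} (hs : ∀ (c : F) x, M.T g (c • x) = s c • M.T g x)
    (hs' : ∀ (c : F) x, M.T g⁻¹ (c • x) = s' c • M.T g⁻¹ x) (A : Matrix.SpecialLinearGroup (Fin 2) F) (a : F) :
    g * M.m (A * up a * A⁻¹) * g⁻¹ ∈ M.E := by
  set B := A * up a * A⁻¹ with hB
  set x := M.T g (ap A ![1, 0]) with hx
  have hA0 : ap A ![1, 0] ≠ 0 := by
    intro h
    have h2 := ap_inv_ap A ![1, 0]
    rw [h] at h2
    have h3 : ap A⁻¹ (0 : Fin 2 → F) = 0 := by
      apply ext2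
      · rw [ap_zero']; simp
      · rw [ap_one']; simp
    rw [h3] at h2
    exact e1_ne h2.symm
  have hT : ∀ y, M.T (g * M.m B * g⁻¹) y = M.T g (ap B (M.T g⁻¹ y)) := by
    intro y
    rw [M.T_mul, M.T_mul, M.T_m]
  -- `s' ` inverts `s` up to the direction: `s (s' c) = c`
  have hss : ∀ c : F, s (s' c) = c := by
    intro c
    have h1 : M.T g (M.T g⁻¹ (c • ![1, 0])) = s (s' c) • M.T g (M.T g⁻¹ ![1, 0]) := by
      rw [hs', hs]
    rw [M.T_T_inv, M.T_T_inv] at h1
    exact (smul_left_injective F e1_ne h1).symm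
  obtain ⟨C, hC⟩ := NatPair.exists_of_fix (x := x) (M.T_ne_zero hA0) (M.T (g * M.m B * g⁻¹)) (M.T_add _)
    (by
      intro c y
      rw [hT, hT, hs', ap_smul, hs, hss])
    (by
      rw [hT, hx, M.T_inv_T]
      congr 1
      have h1 := T_conj_up A a (ap A ![1, 0])
      rw [ap_inv_ap] at h1
      simp only [Matrix.cons_val_one, Matrix.cons_val_fin_one, mul_zero, zero_smul] at h1
      exact sub_eq_zero.1 h1)
    (by
      intro y
      refine ⟨s (a * ap A⁻¹ (M.T g⁻¹ y) 1), ?_⟩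
      have h1 := T_conj_up A a (M.T g⁻¹ y)
      rw [sub_eq_iff_eq_add] at h1
      rw [hT, h1, M.T_add, M.T_T_inv, hs]
      abel)
  exact ⟨C, M.ext (fun y => by
    show M.T (M.m C) y = _
    rw [M.T_m, hC])⟩

/-- semilinear elements conjugate `E` into `E` -/
theorem conj_mem_of_semi {g : L} {s s' : F → F} (hs : ∀ (c : F) x, M.T g (c • x) = s c • M.T g x)
    (hs' : ∀ (c : F) x, M.T g⁻¹ (c • x) = s' c • M.T g⁻¹ x) {u : L} (hu : u ∈ M.E) : g * u * g⁻¹ ∈ M.E := by
  obtain ⟨A, rfl⟩ := M.mem_E.1 hu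
  exact M.m_mem_of' (K := M.E.comap (MulAut.conj g).toMonoidHom)
    (fun a => by
      have h1 := M.conj_up_mem hs hs' 1 a
      rw [one_mul, inv_one, mul_one] at h1
      exact h1)
    (fun a => by
      have h1 := M.conj_up_mem hs hs' (wm 1 one_ne_zero) (-a)
      have h2 : lo a = wm 1 one_ne_zero * up (-a) * (wm 1 one_ne_zero)⁻¹ := by
        rw [wm_up, mul_assoc, mul_inv_cancel, mul_one]
        congr 1
        simp
      rw [← h2] at h1
      exact h1) A

/-- a line preserving `g` is semilinear -/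
theorem exists_semi_of_lines {g : L} (h : ∀ (x : Fin 2 → F) (c : F), ∃ d : F, M.T g (c • x) = d • M.T g x) :
    ∃ s : F → F, ∀ (c : F) x, M.T g (c • x) = s c • M.T g x := by
  have key : ∀ c : F, ∃ d : F, ∀ x, M.T g (c • M.T g⁻¹ x) = d • x := by
    intro c
    refine exists_scalar_of_lines (fun x => M.T g (c • M.T g⁻¹ x)) ?_ ?_
    · intro x y
      show M.T g (c • M.T g⁻¹ (x + y)) = _
      rw [M.T_add, smul_add, M.T_add]
    · intro x
      obtain ⟨d, hd⟩ := h (M.T g⁻¹ x) c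
      refine ⟨d, ?_⟩
      show M.T g (c • M.T g⁻¹ x) = _
      rw [hd, M.T_T_inv]
  choose s hs using key
  refine ⟨s, fun c x => ?_⟩
  have h1 := hs c (M.T g x)
  rwa [M.T_inv_T] at h1

/-- **(I)** an element mapping every `F`-line onto an `F`-line normalises `SL₂(F)` -/
theorem mem_normalizer_of_lines [Finite F] {g : L}
    (h : ∀ (x : Fin 2 → F) (c : F), ∃ d : F, M.T g (c • x) = d • M.T g x)
    (h' : ∀ (x : Fin 2 → F) (c : F), ∃ d : F, M.T g⁻¹ (c • x) = d • M.T g⁻¹ x) :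
    g ∈ normalizer (M.E : Set L) := by
  obtain ⟨s, hs⟩ := M.exists_semi_of_lines h
  obtain ⟨s', hs'⟩ := M.exists_semi_of_lines h'
  rw [mem_normalizer_iff]
  intro u
  refine ⟨fun hu => M.conj_mem_of_semi hs hs' hu, fun hu => ?_⟩
  have h1 := M.conj_mem_of_semi (g := g⁻¹) hs' (by rw [inv_inv]; exact hs) hu
  have e : g⁻¹ * (g * u * g⁻¹) * g⁻¹⁻¹ = u := by group
  rwa [e] at h1

/-- **(II)** it is enough to look at the elements fixing the nonzero vector `r` -/
theorem norm_of_fix [Finite F] {r : Fin 2 → F} (hr : r ≠ 0)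
    (h : ∀ n : L, M.T n r = r → ∀ c : F, ∃ d : F, M.T n (c • r) = d • r) (g : L) :
    g ∈ normalizer (M.E : Set L) := by
  have key : ∀ (g : L) (x : Fin 2 → F) (c : F), ∃ d : F, M.T g (c • x) = d • M.T g x := by
    intro g x c
    by_cases hx : x = 0
    · refine ⟨0, ?_⟩
      rw [hx, smul_zero, M.T_zero, smul_zero]
    obtain ⟨A, hA⟩ := NatPair.exists_ap hr hx
    obtain ⟨B, hB⟩ := NatPair.exists_ap hr (M.T_ne_zero (g := g) hx)
    have hT : ∀ y, M.T ((M.m B)⁻¹ * g * M.m A) y = ap B⁻¹ (M.T g (ap A y)) := by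
      intro y
      rw [M.T_mul, M.T_mul, M.T_m, ← M.m_inv, M.T_m]
    obtain ⟨d, hd⟩ := h ((M.m B)⁻¹ * g * M.m A) (by rw [hT, hA, ← hB, ap_inv_ap]) c
    refine ⟨d, ?_⟩
    rw [hT, ap_smul, hA] at hd
    have h1 := congrArg (ap B) hd
    rwa [ap_ap_inv, ap_smul, hB] at h1
  exact M.mem_normalizer_of_lines (key g) (key g⁻¹)

end Co

end Cfsg.Agent.Omega.NatPair.NormLev

end

section


/-!
# LEMMA NORM', (III) + (IV) (helper958, bb OMEGA #18813): `N_G(V)` is semilinear

`Co F L V`, `O` a 2-subgroup of `N_L(E)` which is normalised by the stabiliser of `r` in `L` and fixes `r`.  If `O ≠ 1` then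
`E` is normal in `L`.

`line_of_fix` : an element `n` fixing `e₁` fixes the line `F e₁`.  Proof without any assumption on `|F|` : `a₀ = up c₀ ∈ O`,
`a' = n a₀ n⁻¹`, `σ` the field automorphism of `a'`, `σ² = 1 ≠ σ`, `κ = det(e₁, v₁)`, `v₁ ∈ n(F e₁)`.  Every vector `v` is
with `a' v` in a common `g(F e₁)`, so every `u` with `a₀ u`; `det` has values in `Fix(σ) κ` on all `g(F e₁)`, but
`det(u, a₀ u) = c₀ y²` is arbitrary.
-/

set_option autoImplicit false
set_option linter.unusedSectionVars false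

namespace Cfsg.Agent.Omega.NatPair.NormLev.Co

open Subgroup Cfsg.Agent.Lib.SL2Mat
open NormExc (exists_ap2)

theorem eq_of_sq_cyclic {C : Type*} [Group C] [Finite C] [IsCyclic C] {a b : C} (ha : a ^ 2 = 1) (hb : b ^ 2 = 1)
    (ha1 : a ≠ 1) (hb1 : b ≠ 1) : a = b := by
  classical
  by_contra hab
  have := Fintype.ofFinite C
  have h1 := IsCyclic.card_pow_eq_one_le (α := C) (n := 2) (by norm_num)
  have h2 : ({1, a, b} : Finset C) ⊆ Finset.univ.filter (fun x => x ^ 2 = 1) := by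
    intro x hx
    simp only [Finset.mem_insert, Finset.mem_singleton] at hx
    rw [Finset.mem_filter]
    refine ⟨Finset.mem_univ _, ?_⟩
    rcases hx with rfl | rfl | rfl
    · exact one_pow _
    · exact ha
    · exact hb
  have h3 := Finset.card_le_card h2
  have h4 : ({1, a, b} : Finset C).card = 3 :=
    Finset.card_eq_three.2 ⟨1, a, b, ha1.symm, hb1.symm, hab, rfl⟩
  omega

theorem dt_ap {F : Type*} [Field F] (A : Matrix.SpecialLinearGroup (Fin 2) F) (x y : Fin 2 → F) :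
    dt (ap A x) (ap A y) = dt x y := by
  unfold dt
  rw [ap_zero', ap_zero', ap_one', ap_one']
  linear_combination (x 0 * y 1 - x 1 * y 0) * det_eq A

variable {F L V : Type*} [Field F] [Group L] [Group V] [MulDistribMulAction L V] (M : Co F L V)

theorem dt_T [Finite F] {o : L} (ho : o ∈ normalizer (M.E : Set L)) (x y : Fin 2 → F) :
    dt (M.T o x) (M.T o y) = dt (M.T o ![1, 0]) (M.T o ![0, 1]) * M.sg ⟨o, ho⟩ (dt x y) := by
  set σ := M.sg ⟨o, ho⟩ with hσ
  have key : ∀ x, M.T o x = σ (x 0) • M.T o ![1, 0] + σ (x 1) • M.T o ![0, 1] := by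
    intro x
    have h2 : x = x 0 • ![1, 0] + x 1 • ![0, 1] := by
      apply ext2 <;> simp
    have h3 := M.sg_spec ⟨o, ho⟩
    nth_rewrite 1 [h2]
    rw [M.T_add, h3, h3]
  rw [key x, key y]
  unfold dt
  simp only [Pi.add_apply, Pi.smul_apply, smul_eq_mul, map_sub, map_mul]
  ring

/-- the normal form of the elements of `N(E)` fixing `e₁` -/
theorem nf [Finite F] {o : L} (ho : o ∈ normalizer (M.E : Set L)) (h1 : M.T o ![1, 0] = ![1, 0]) :
    ∃ β δ : F, δ ≠ 0 ∧ ∀ x, M.T o x = ![M.sg ⟨o, ho⟩ (x 0) + M.sg ⟨o, ho⟩ (x 1) * β, M.sg ⟨o, ho⟩ (x 1) * δ] := by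
  set σ := M.sg ⟨o, ho⟩ with hσ
  have key : ∀ x, M.T o x = ![σ (x 0) + σ (x 1) * M.T o ![0, 1] 0, σ (x 1) * M.T o ![0, 1] 1] := by
    intro x
    have h2 : x = x 0 • ![1, 0] + x 1 • ![0, 1] := by
      apply ext2 <;> simp
    have h3 := M.sg_spec ⟨o, ho⟩
    nth_rewrite 1 [h2]
    rw [M.T_add, h3, h3, h1]
    apply ext2
    · simp [hσ]
    · simp [hσ]
  refine ⟨_, _, ?_, key⟩
  intro h
  have h2 := M.T_T_inv o ![0, 1]
  have h3 := congrFun h2 1
  rw [key] at h3
  simp [h] at h3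

/-- conjugation on the transvections -/
theorem conj_up [Finite F] {o : L} (ho : o ∈ normalizer (M.E : Set L)) {β δ : F} (hδ : δ ≠ 0)
    (h : ∀ x, M.T o x = ![M.sg ⟨o, ho⟩ (x 0) + M.sg ⟨o, ho⟩ (x 1) * β, M.sg ⟨o, ho⟩ (x 1) * δ]) (c : F) :
    o * M.m (up c) = M.m (up (M.sg ⟨o, ho⟩ c / δ)) * o := by
  refine M.ext (fun x => ?_)
  rw [M.T_mul, M.T_mul, M.T_m, M.T_m, h x, ap_up, h, ap_up]
  apply ext2
  · simp only [Matrix.cons_val_zero, Matrix.cons_val_one, Matrix.cons_val_fin_one, map_add, map_mul]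
    field_simp
    ring
  · simp only [Matrix.cons_val_one, Matrix.cons_val_fin_one]

theorem T_up_e1 (c : F) : M.T (M.m (up c)) ![1, 0] = ![1, 0] := by rw [M.T_m, ap_up_e]

theorem T_up_smul (c s : F) : M.T (M.m (up c)) (s • ![1, 0]) = s • ![1, 0] := by rw [M.T_m, ap_smul, ap_up_e]

theorem one_of_fix_up {c : F} (hc : c ≠ 0) {x : Fin 2 → F} (h : M.T (M.m (up c)) x = x) : x 1 = 0 := by
  rw [M.T_m, ap_up] at h
  have h2 := congrFun h 0
  simpa [hc] using h2

theorem eq_smul_e1 {x : Fin 2 → F} (h : x 1 = 0) : x = x 0 • ![1, 0] := by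
  apply ext2 <;> simp [h]

/-- a linear 2-element of `N(E)` fixing `e₁` is a transvection -/
theorem mem_Up_of_lin [Finite F] [CharP F 2] {o : L} (ho : o ∈ normalizer (M.E : Set L)) (h1 : M.T o ![1, 0] = ![1, 0])
    {k : ℕ} (hk : o ^ 2 ^ k = 1) (hs : M.sg ⟨o, ho⟩ = 1) : o ∈ M.Up := by
  obtain ⟨β, δ, hδ, h⟩ := M.nf ho h1
  rw [hs] at h
  have hT : ∀ x, M.T o x = ![x 0 + x 1 * β, x 1 * δ] := h
  have hpow : ∀ (n : ℕ) x, M.T (o ^ n) x 1 = x 1 * δ ^ n := by
    intro n
    induction n with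
    | zero => intro x; rw [pow_zero, M.T_one, pow_zero, mul_one]
    | succ n ih =>
      intro x
      rw [pow_succ', M.T_mul, hT]
      simp only [Matrix.cons_val_one, Matrix.cons_val_fin_one, ih, pow_succ]
      ring
  have h3 := hpow (2 ^ k) ![0, 1]
  rw [hk, M.T_one] at h3
  have hδ1 : δ = 1 := by
    have h4 : δ ^ 2 ^ k = 1 := by simpa using h3.symm
    have h5 : (δ - 1) ^ 2 ^ k = 0 := by rw [sub_pow_char_pow, h4, one_pow, sub_self]
    exact sub_eq_zero.1 (pow_eq_zero_iff (by positivity) |>.1 h5)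
  refine ⟨β, M.ext (fun x => ?_)⟩
  rw [M.T_m, hT, ap_up, hδ1]
  apply ext2
  · simp [mul_comm]
  · simp

section main

variable [Finite F] [CharP F 2] {O : Subgroup L} (hO2 : IsPGroup 2 O) (hOE : O ≤ normalizer (M.E : Set L))
  (hOr : ∀ o ∈ O, M.T o ![1, 0] = ![1, 0])
  (hn : ∀ n : L, M.T n ![1, 0] = ![1, 0] → ∀ o ∈ O, n * o * n⁻¹ ∈ O)
include hOE hOr hn

/-- `O` contains a transvection -/
theorem exists_up_mem (h1 : O ≠ ⊥) : ∃ c : F, c ≠ 0 ∧ M.m (up c) ∈ O := by
  by_contra hne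
  push Not at hne
  have hU : ∀ o ∈ O, o ∈ M.Up → o = 1 := by
    rintro _ ho ⟨c, rfl⟩
    by_cases hc : c = 0
    · rw [hc, up_zero, M.m_one]
    · exact absurd ho (hne c hc)
  apply h1
  rw [eq_bot_iff]
  intro o ho
  rw [mem_bot]
  obtain ⟨β, δ, hδ, h⟩ := M.nf (hOE ho) (hOr o ho)
  set σ := M.sg ⟨o, hOE ho⟩ with hσ
  have key : ∀ c : F, σ c / δ = c := by
    intro c
    have h2 : M.m (up c) * o⁻¹ * (M.m (up c))⁻¹ ∈ O := hn _ (M.T_up_e1 c) _ (inv_mem ho)
    have h3 : o * (M.m (up c) * o⁻¹ * (M.m (up c))⁻¹) ∈ O := mul_mem ho h2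
    have h4 : o * (M.m (up c) * o⁻¹ * (M.m (up c))⁻¹) = M.m (up (σ c / δ - c)) := by
      have e : o * (M.m (up c) * o⁻¹ * (M.m (up c))⁻¹) = o * M.m (up c) * o⁻¹ * (M.m (up c))⁻¹ := by group
      rw [e, M.conj_up (hOE ho) hδ h, mul_inv_cancel_right, ← M.m_inv, up_inv, ← M.m_mul, up_mul, ← hσ, sub_eq_add_neg]
    have h5 := hU _ h3 (by rw [h4]; exact ⟨_, rfl⟩)
    rw [h4, ← M.m_one] at h5
    have h6 := M.m_inj h5
    rw [← up_zero] at h6
    exact sub_eq_zero.1 (up_inj h6)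
  have hδ1 : δ = 1 := by
    have h2 := key 1
    rw [map_one, one_div] at h2
    exact inv_eq_one.1 h2
  have hσ1 : ∀ c, σ c = c := by
    intro c
    have h2 := key c
    rwa [hδ1, div_one] at h2
  refine hU o ho ⟨β, M.ext (fun x => ?_)⟩
  rw [M.T_m, h, ap_up, hδ1, hσ1, hσ1]
  apply ext2
  · simp [mul_comm]
  · simp

include hO2

theorem line_of_fix (h1 : O ≠ ⊥) {n : L} (hn1 : M.T n ![1, 0] = ![1, 0]) (c : F) :
    ∃ d : F, M.T n (c • ![1, 0]) = d • ![1, 0] := by
  have hcyc : IsCyclic (RingAut F) := LieRecognition.FieldSemilinear.isCyclic_ringAut F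
  have hfinA : Finite (RingAut F) := Finite.of_injective (fun s : F ≃+* F => (s : F → F)) DFunLike.coe_injective
  have hpow : ∀ o ∈ O, ∃ k : ℕ, o ^ 2 ^ k = 1 := fun o ho => by
    obtain ⟨k, hk⟩ := hO2 ⟨o, ho⟩
    exact ⟨k, congrArg Subtype.val hk⟩
  by_contra hne
  obtain ⟨c₀, hc₀, ha₀⟩ := M.exists_up_mem hOE hOr hn h1
  set a₀ := M.m (up c₀) with ha₀d
  have ha₀2 : a₀ * a₀ = 1 := by rw [ha₀d, ← M.m_mul, up_mul, CharTwo.add_self_eq_zero, up_zero, M.m_one]
  set v₁ := M.T n (c • ![1, 0]) with hv₁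
  set a' := n * a₀ * n⁻¹ with ha'
  have ha'O : a' ∈ O := hn n hn1 a₀ ha₀
  have ha'2 : a' * a' = 1 := by
    rw [ha', show n * a₀ * n⁻¹ * (n * a₀ * n⁻¹) = n * (a₀ * a₀) * n⁻¹ by group, ha₀2, mul_one, mul_inv_cancel]
  set σ := M.sg ⟨a', hOE ha'O⟩ with hσ
  set μ := dt (M.T a' ![1, 0]) (M.T a' ![0, 1]) with hμ
  have hdt : ∀ x y, dt (M.T a' x) (M.T a' y) = μ * σ (dt x y) := fun x y => M.dt_T (hOE ha'O) x y
  have hfix : ∀ x, M.T a' (M.T n x) = M.T n (M.T a₀ x) := by
    intro x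
    rw [ha', M.T_mul, M.T_mul, M.T_inv_T]
  have hfixv : M.T a' v₁ = v₁ := by rw [hv₁, hfix, M.T_up_smul]
  -- `C_V(a') = n(F e₁)`
  have hCV : ∀ x, M.T a' x = x → ∃ t : F, x = M.T n (t • ![1, 0]) := by
    intro x hx
    have h2 : M.T a₀ (M.T n⁻¹ x) = M.T n⁻¹ x := by
      have h3 := hfix (M.T n⁻¹ x)
      rw [M.T_T_inv, hx] at h3
      rw [← M.T_inv_T n (M.T a₀ (M.T n⁻¹ x)), ← h3]
    have h4 := eq_smul_e1 (M.one_of_fix_up hc₀ h2)
    exact ⟨_, by rw [← h4, M.T_T_inv]⟩
  set κ := dt ![1, 0] v₁ with hκd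
  have hκ0 : κ ≠ 0 := by
    intro h
    obtain ⟨d, hd⟩ := exists_smul_of_dt e1_ne h
    exact hne ⟨d, hd⟩
  have hκ : κ = μ * σ κ := by
    have h2 := hdt ![1, 0] v₁
    rwa [hOr a' ha'O, hfixv] at h2
  have hμ0 : μ ≠ 0 := by
    rintro h
    rw [h, zero_mul] at hκ
    exact hκ0 hκ
  have hσκ : σ κ ≠ 0 := fun h => hκ0 (by rw [hκ, h, mul_zero])
  have hF0 : ∀ z, z = μ * σ z → σ (z / κ) = z / κ := by
    intro z hz
    rw [map_div₀, div_eq_div_iff hσκ hκ0]
    have h2 : μ * (σ z * κ) = μ * (z * σ κ) := by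
      have e1 : μ * (σ z * κ) = (μ * σ z) * κ := by ring
      have e2 : μ * (z * σ κ) = z * (μ * σ κ) := by ring
      rw [e1, e2, ← hz, ← hκ]
    exact mul_left_cancel₀ hμ0 h2
  -- `v` and `a' v` lie in a common member
  have P1 : ∀ v, ∃ (g : L) (t₁ t₂ : F), v = M.T g (t₁ • ![1, 0]) ∧ M.T a' v = M.T g (t₂ • ![1, 0]) := by
    intro v
    set z := dt v (M.T a' v) with hz
    have hz1 : z = μ * σ z := by
      have h2 := hdt v (M.T a' v)
      rw [← M.T_mul, ha'2, M.T_one] at h2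
      rw [← h2, hz]
      unfold dt
      have h3 : ∀ a b : F, a - b = b - a := fun a b => by
        rw [CharTwo.sub_eq_add, CharTwo.sub_eq_add, add_comm]
      rw [h3, mul_comm, mul_comm (v 0)]
    by_cases hz0 : z = 0
    · by_cases hv : v = 0
      · refine ⟨1, 0, 0, ?_, ?_⟩
        · rw [zero_smul, M.T_zero, hv]
        · rw [zero_smul, M.T_zero, hv, M.T_zero]
      · obtain ⟨d, hd⟩ := exists_smul_of_dt hv hz0
        obtain ⟨A, hA⟩ := exists_ap_e hv
        refine ⟨M.m A, 1, d, ?_, ?_⟩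
        · rw [M.T_m, one_smul, hA]
        · rw [M.T_m, ap_smul, hA, hd]
    · set s := z / κ with hs
      have hsz : s * κ = z := div_mul_cancel₀ _ hκ0
      have hsf : M.T a' (s • v₁) = s • v₁ := by
        have h2 := M.sg_spec ⟨a', hOE ha'O⟩ s v₁
        rw [← hσ, hF0 z hz1] at h2
        rw [show M.T a' (s • v₁) = s • M.T a' v₁ from h2, hfixv]
      obtain ⟨t, ht⟩ := hCV _ hsf
      have h3 : dt ![1, 0] (s • v₁) = z := by rw [dt_smul, ← hκd, hsz]
      obtain ⟨A, hA1, hA2⟩ := exists_ap2 (f₁ := ![1, 0]) (f₂ := s • v₁) (g₁ := v) (g₂ := M.T a' v)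
        (by rw [h3]; exact hz0) (by rw [h3])
      refine ⟨M.m A * n, 1, t, ?_, ?_⟩
      · rw [one_smul, M.T_mul, hn1, M.T_m, hA1]
      · rw [M.T_mul (M.m A) n, ← ht, M.T_m, hA2]
  have P2 : ∀ u, ∃ (g : L) (t₁ t₂ : F), u = M.T g (t₁ • ![1, 0]) ∧ M.T a₀ u = M.T g (t₂ • ![1, 0]) := by
    intro u
    obtain ⟨g, t₁, t₂, h2, h3⟩ := P1 (M.T n u)
    refine ⟨n⁻¹ * g, t₁, t₂, ?_, ?_⟩
    · rw [M.T_mul, ← h2, M.T_inv_T]
    · rw [M.T_mul, ← h3, hfix, M.T_inv_T]
  -- `det` on the members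
  have Q : ∀ (g : L) (t₁ t₂ : F), dt (M.T g (t₁ • ![1, 0])) (M.T g (t₂ • ![1, 0])) =
      μ * σ (dt (M.T g (t₁ • ![1, 0])) (M.T g (t₂ • ![1, 0]))) := by
    intro g t₁ t₂
    by_cases ht : t₁ = 0
    · rw [ht, zero_smul, M.T_zero]
      have : ∀ y : Fin 2 → F, dt 0 y = 0 := fun y => by unfold dt; simp
      rw [this, map_zero, mul_zero]
    have hx0 : t₁ • (![1, 0] : Fin 2 → F) ≠ 0 := smul_ne_zero ht e1_ne
    obtain ⟨A, hA⟩ := exists_ap_e (M.T_ne_zero (g := g) hx0)
    have hB : ∀ s : F, ap (dg t₁ ht) (s • ![1, 0]) = (s * t₁) • ![1, 0] := by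
      intro s
      apply ext2
      · rw [ap_zero']; simp [mul_comm]
      · rw [ap_one']; simp
    set g' := (M.m A)⁻¹ * g * M.m (dg t₁ ht) with hg'
    have hg'T : ∀ s : F, M.T (M.m A) (M.T g' (s • ![1, 0])) = M.T g ((s * t₁) • ![1, 0]) := by
      intro s
      rw [← M.T_mul, hg', show M.m A * ((M.m A)⁻¹ * g * M.m (dg t₁ ht)) = g * M.m (dg t₁ ht) by group, M.T_mul, M.T_m, hB]
    have hg'1 : M.T g' ![1, 0] = ![1, 0] := by
      have h2 := hg'T 1
      rw [one_smul, one_mul, ← hA, M.T_m] at h2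
      have h3 := congrArg (ap A⁻¹) h2
      rwa [ap_inv_ap, ap_inv_ap] at h3
    set y' := M.T g' ((t₂ / t₁) • ![1, 0]) with hy'
    have hy : M.T g (t₂ • ![1, 0]) = ap A y' := by
      have h2 := hg'T (t₂ / t₁)
      rw [div_mul_cancel₀ _ ht, M.T_m] at h2
      rw [← h2]
    rw [hy, ← hA, dt_ap]
    set o := g' * a₀ * g'⁻¹ with ho
    have hoO : o ∈ O := hn g' hg'1 a₀ ha₀
    have ho2 : o * o = 1 := by
      rw [ho, show g' * a₀ * g'⁻¹ * (g' * a₀ * g'⁻¹) = g' * (a₀ * a₀) * g'⁻¹ by group, ha₀2, mul_one, mul_inv_cancel]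
    have hoy : M.T o y' = y' := by
      rw [ho, hy', M.T_mul, M.T_mul, M.T_inv_T, M.T_up_smul]
    have ho1 : o ≠ 1 := by
      intro h
      have h2 : a₀ = 1 := by
        have e : a₀ = g'⁻¹ * o * g' := by rw [ho]; group
        rw [e, h]; group
      rw [ha₀d, ← M.m_one] at h2
      have h3 := M.m_inj h2
      rw [← up_zero] at h3
      exact hc₀ (up_inj h3)
    obtain ⟨k, hk⟩ := hpow o hoO
    by_cases hso : M.sg ⟨o, hOE hoO⟩ = 1
    · obtain ⟨d, hd⟩ := M.mem_Up_of_lin (hOE hoO) (hOr o hoO) hk hso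
      have hd0 : d ≠ 0 := by
        rintro rfl
        rw [up_zero, M.m_one] at hd
        exact ho1 hd.symm
      rw [← hd] at hoy
      have h2 := M.one_of_fix_up hd0 hoy
      have h3 : dt ![1, 0] y' = 0 := by
        unfold dt
        simp [h2]
      rw [h3, map_zero, mul_zero]
    · -- `σ_o = σ`
      have hmul : ∀ (x y : L) (hx : x ∈ O) (hy : y ∈ O),
          M.sg ⟨x * y, hOE (mul_mem hx hy)⟩ = M.sg ⟨x, hOE hx⟩ * M.sg ⟨y, hOE hy⟩ := fun x y hx hy =>
        map_mul M.sgHom ⟨x, hOE hx⟩ ⟨y, hOE hy⟩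
      have hsone : M.sg ⟨1, one_mem _⟩ = (1 : RingAut F) := map_one M.sgHom
      have hsq : ∀ (x : L) (hx : x ∈ O), x * x = 1 → (M.sg ⟨x, hOE hx⟩ : RingAut F) ^ 2 = 1 := by
        intro x hx hxx
        rw [pow_two, ← hmul x x hx hx]
        have e : (⟨x * x, hOE (mul_mem hx hx)⟩ : normalizer (M.E : Set L)) = ⟨1, one_mem _⟩ := Subtype.ext hxx
        rw [e, hsone]
      by_cases hσ1 : σ = 1
      · -- impossible: `a'` would be a transvection
        obtain ⟨k', hk'⟩ := hpow a' ha'O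
        obtain ⟨d, hd⟩ := M.mem_Up_of_lin (hOE ha'O) (hOr a' ha'O) hk' hσ1
        have hd0 : d ≠ 0 := by
          rintro rfl
          rw [up_zero, M.m_one] at hd
          have h2 : a₀ = 1 := by
            have e : a₀ = n⁻¹ * a' * n := by rw [ha']; group
            rw [e, ← hd]; group
          rw [ha₀d, ← M.m_one] at h2
          have h3 := M.m_inj h2
          rw [← up_zero] at h3
          exact hc₀ (up_inj h3)
        rw [← hd] at hfixv
        have h2 := M.one_of_fix_up hd0 hfixv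
        exact absurd ⟨_, eq_smul_e1 h2⟩ hne
      · have heq : M.sg ⟨o, hOE hoO⟩ = σ := eq_of_sq_cyclic (C := RingAut F) (hsq o hoO ho2) (hsq a' ha'O ha'2) hso hσ1
        -- `a' o` is linear
        have h2 : M.sg ⟨a' * o, hOE (mul_mem ha'O hoO)⟩ = 1 := by
          rw [hmul a' o ha'O hoO, heq, ← pow_two]
          exact hsq a' ha'O ha'2
        obtain ⟨k', hk'⟩ := hpow (a' * o) (mul_mem ha'O hoO)
        obtain ⟨d, hd⟩ := M.mem_Up_of_lin (hOE (mul_mem ha'O hoO)) (hOr _ (mul_mem ha'O hoO)) hk' h2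
        have h3 : o = a' * M.m (up d) := by rw [hd, ← mul_assoc, ha'2, one_mul]
        have h4 : dt (M.T o ![1, 0]) (M.T o y') = μ * σ (dt ![1, 0] y') := by
          rw [h3, M.T_mul a', M.T_mul a', hdt, M.T_m, M.T_m, dt_ap]
        rwa [hOr o hoO, hoy] at h4
  -- `σ = 1`
  have hσ1 : σ = 1 := by
    ext z
    have : Fintype F := Fintype.ofFinite F
    obtain ⟨y, hy⟩ : ∃ y : F, y ^ 2 = z * κ / c₀ := by
      obtain ⟨y, hy⟩ := (PerfectRing.bijective_frobenius (R := F) (p := 2)).2 (z * κ / c₀)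
      exact ⟨y, hy⟩
    obtain ⟨g, t₁, t₂, h2, h3⟩ := P2 ![0, y]
    have h4 := Q g t₁ t₂
    rw [← h2, ← h3, ha₀d, M.T_m, ap_up] at h4
    have h5 : dt ![0, y] ![(![0, y] : Fin 2 → F) 0 + c₀ * (![0, y] : Fin 2 → F) 1, (![0, y] : Fin 2 → F) 1] = z * κ := by
      unfold dt
      simp only [Matrix.cons_val_zero, Matrix.cons_val_one, Matrix.cons_val_fin_one]
      have e : (0 : F) * y - y * (0 + c₀ * y) = -(c₀ * y ^ 2) := by ring
      rw [e, CharTwo.neg_eq, hy]
      field_simp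
    rw [h5, map_mul] at h4
    have h6 : z * κ = σ z * κ := by
      calc z * κ = μ * (σ z * σ κ) := h4
        _ = σ z * (μ * σ κ) := by ring
        _ = σ z * κ := by rw [← hκ]
    exact (mul_right_cancel₀ hκ0 h6).symm
  obtain ⟨k', hk'⟩ := hpow a' ha'O
  obtain ⟨d, hd⟩ := M.mem_Up_of_lin (hOE ha'O) (hOr a' ha'O) hk' hσ1
  have hd0 : d ≠ 0 := by
    rintro rfl
    rw [up_zero, M.m_one] at hd
    have h2 : a₀ = 1 := by
      have e : a₀ = n⁻¹ * a' * n := by rw [ha']; group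
      rw [e, ← hd]; group
    rw [ha₀d, ← M.m_one] at h2
    have h3 := M.m_inj h2
    rw [← up_zero] at h3
    exact hc₀ (up_inj h3)
  rw [← hd] at hfixv
  exact hne ⟨_, eq_smul_e1 (M.one_of_fix_up hd0 hfixv)⟩

end main

/-- **LEMMA NORM'** (no assumption on `|F|`) -/
theorem norm_of_o2' [Finite F] [CharP F 2] {r : Fin 2 → F} (hr : r ≠ 0) {O : Subgroup L} (hO2 : IsPGroup 2 O)
    (hOE : O ≤ normalizer (M.E : Set L)) (hOr : ∀ o ∈ O, M.T o r = r)
    (hn : ∀ n : L, M.T n r = r → ∀ o ∈ O, n * o * n⁻¹ ∈ O) (h1 : O ≠ ⊥) (g : L) : g ∈ normalizer (M.E : Set L) := by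
  obtain ⟨P, hP⟩ := exists_ap_e hr
  set k := M.m P with hk
  have hkr : M.T k ![1, 0] = r := by rw [hk, M.T_m, hP]
  have hkr' : M.T k⁻¹ r = ![1, 0] := by rw [← hkr, M.T_inv_T]
  have hkE : k ∈ normalizer (M.E : Set L) := le_normalizer (M.m_mem P)
  refine M.norm_of_fix e1_ne (fun n hn1 c => ?_) g
  have hmem : ∀ x : L, x ∈ O.comap (MulAut.conj k).toMonoidHom ↔ k * x * k⁻¹ ∈ O := fun x => Iff.rfl
  refine M.line_of_fix (O := O.comap (MulAut.conj k).toMonoidHom) ?_ ?_ ?_ ?_ ?_ hn1 c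
  · exact hO2.comap_of_injective _ (MulAut.conj k).injective
  · intro x hx
    have h2 := mul_mem (mul_mem (inv_mem hkE) (hOE ((hmem x).1 hx))) hkE
    have e : k⁻¹ * (k * x * k⁻¹) * k = x := by group
    rwa [e] at h2
  · intro x hx
    have h2 := hOr _ ((hmem x).1 hx)
    have e : x = k⁻¹ * (k * x * k⁻¹) * k := by group
    rw [e, M.T_mul, M.T_mul, hkr, h2, hkr']
  · intro m hm x hx
    rw [hmem] at hx ⊢
    have h2 := hn (k * m * k⁻¹) (by rw [M.T_mul, M.T_mul, hkr', hm, hkr]) _ hx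
    have e : k * m * k⁻¹ * (k * x * k⁻¹) * (k * m * k⁻¹)⁻¹ = k * (m * x * m⁻¹) * k⁻¹ := by group
    rwa [e] at h2
  · intro h
    apply h1
    rw [eq_bot_iff]
    intro x hx
    have h2 : k⁻¹ * x * k ∈ O.comap (MulAut.conj k).toMonoidHom := by
      rw [hmem]
      have e : k * (k⁻¹ * x * k) * k⁻¹ = x := by group
      rwa [e]
    rw [h, mem_bot] at h2
    have e : x = k * (k⁻¹ * x * k) * k⁻¹ := by group
    rw [mem_bot, e, h2]
    group

end Cfsg.Agent.Omega.NatPair.NormLev.Co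

end

private theorem dce_e7edd02adfc4 : _root_.True := by
  try have : _root_.True := by simp only [_root_.Cfsg.Agent.Omega.NatPair.NormLev.Co.sg.congr_simp]
  exact _root_.True.intro
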